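import Cfsg.Agent.Linear.Mitchell.Subgroups.PerfectTwo
import Cfsg.Agent.Linear.Mitchell.Transport
import Cfsg.Agent.Linear.Mitchell.Socle.Induced
import Cfsg.Agent.H40.SupSolvable

/-!
A subgroup of `SL₃(F)` with no abelian normal subgroup modulo scalars has a normal subgroup in the
setting of Mitchell's theorem.
-/

set_option autoImplicit false
set_option linter.style.haveILetI false

namespace Cfsg.Agent.Linear.Mitchell.Subgroups

open scoped MatrixGroups Matrix commutatorElement
open Cfsg.Geo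

variable {F : Type*} [Field F] [Fintype F] {G P : Subgroup (GL (Fin 3) F)}

local notation "M3" => Matrix (Fin 3) (Fin 3) F
local notation "Z" => scalars (Fin 3) F

/-- `M` is invariant under conjugation by `G`. -/
def Invt (G M : Subgroup (GL (Fin 3) F)) : Prop := ∀ g ∈ G, ∀ a ∈ M, g * a * g⁻¹ ∈ M

theorem scalar_eq {c d : F} (h : c • (1 : M3) = d • 1) : c = d := by
  simpa using congrFun (congrFun h 0) 0

/-- Every abelian normal subgroup modulo scalars is trivial. -/
def NoAb (G : Subgroup (GL (Fin 3) F)) : Prop :=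
  ∀ A ≤ G, Invt G A → (∀ a ∈ A, ∀ b ∈ A, ⁅a, b⁆ ∈ Z) → A ≤ Z

/-- A minimal normal subgroup modulo scalars. -/
structure Layer (G P : Subgroup (GL (Fin 3) F)) : Prop where
  le : P ≤ G
  invt : Invt G P
  perfect : ⁅P, P⁆ = P
  nscal : ¬ P ≤ Z
  minimal : ∀ M ≤ P, Invt G M → M ≤ Z ∨ M = P

theorem exists_layer (hab : NoAb G) {M : Subgroup (GL (Fin 3) F)} (hM : M ≤ G) (hi : Invt G M)
    (hns : ¬ M ≤ Z) : ∃ P ≤ M, Layer G P := by
  classical
  have hex : ∃ n, ∃ Q ≤ M, Invt G Q ∧ ¬ Q ≤ Z ∧ Nat.card Q = n := ⟨_, M, le_rfl, hi, hns, rfl⟩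
  obtain ⟨Q, hQM, hQi, hQns, hQc⟩ := Nat.find_spec hex
  have hmin : ∀ N ≤ Q, Invt G N → N ≤ Z ∨ N = Q := by
    intro N hN hNi
    refine or_iff_not_imp_left.mpr fun hNns => Subgroup.eq_of_le_of_card_ge hN ?_
    rw [hQc]
    exact Nat.find_min' hex ⟨N, hN.trans hQM, hNi, hNns, rfl⟩
  have hcle : ⁅Q, Q⁆ ≤ Q := Subgroup.commutator_le.mpr fun a ha b hb =>
    Q.mul_mem (Q.mul_mem (Q.mul_mem ha hb) (Q.inv_mem ha)) (Q.inv_mem hb)
  have hci : Invt G ⁅Q, Q⁆ := by
    intro g hg a ha
    have h1 : a ∈ (⁅Q, Q⁆ : Subgroup (GL (Fin 3) F)) := ha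
    have h2 := Subgroup.mem_map_of_mem (MulAut.conj g).toMonoidHom h1
    rw [Subgroup.map_commutator] at h2
    have hle : Q.map (MulAut.conj g).toMonoidHom ≤ Q := by
      rintro _ ⟨b, hb, rfl⟩
      exact hQi g hg b hb
    exact Subgroup.commutator_mono hle hle h2
  refine ⟨Q, hQM, hQM.trans hM, hQi, (hmin _ hcle hci).resolve_left fun h => hQns ?_, hQns, hmin⟩
  exact hab Q (hQM.trans hM) hQi fun a ha b hb => h (Subgroup.commutator_mem_commutator ha hb)

/-- Transpose inverse. -/
noncomputable def dual : GL (Fin 3) F ≃* GL (Fin 3) F where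
  toFun g := ⟨((g⁻¹ : GL (Fin 3) F) : M3)ᵀ, (g : M3)ᵀ,
    by rw [← Matrix.transpose_mul, ← Units.val_mul, mul_inv_cancel, Units.val_one, Matrix.transpose_one],
    by rw [← Matrix.transpose_mul, ← Units.val_mul, inv_mul_cancel, Units.val_one, Matrix.transpose_one]⟩
  invFun g := ⟨((g⁻¹ : GL (Fin 3) F) : M3)ᵀ, (g : M3)ᵀ,
    by rw [← Matrix.transpose_mul, ← Units.val_mul, mul_inv_cancel, Units.val_one, Matrix.transpose_one],
    by rw [← Matrix.transpose_mul, ← Units.val_mul, inv_mul_cancel, Units.val_one, Matrix.transpose_one]⟩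
  left_inv g := Units.ext (Matrix.transpose_transpose _)
  right_inv g := Units.ext (Matrix.transpose_transpose _)
  map_mul' g h := Units.ext (by
    show (((g * h)⁻¹ : GL (Fin 3) F) : M3)ᵀ = _
    rw [_root_.mul_inv_rev, Units.val_mul, Matrix.transpose_mul]
    rfl)

theorem dual_val (g : GL (Fin 3) F) : ((dual g : GL (Fin 3) F) : M3) = ((g⁻¹ : GL (Fin 3) F) : M3)ᵀ := rfl

theorem dual_dual (g : GL (Fin 3) F) : dual (dual g) = g := Units.ext (Matrix.transpose_transpose _)

theorem dual_mem_scalars {g : GL (Fin 3) F} (hg : g ∈ Z) : dual g ∈ Z := by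
  obtain ⟨u, hu⟩ := (mem_scalars_iff _).mp hg
  refine (mem_scalars_iff _).mpr ⟨u⁻¹, ?_⟩
  have : ((g⁻¹ : GL (Fin 3) F) : M3) = ((u⁻¹ : Fˣ) : F) • 1 := by
    refine Units.inv_eq_of_mul_eq_one_right ?_
    rw [hu, smul_mul_assoc, one_mul, smul_smul, ← Units.val_mul, mul_inv_cancel, Units.val_one, one_smul]
  rw [dual_val, this, Matrix.transpose_smul, Matrix.transpose_one]

theorem dual_mem_iff {g : GL (Fin 3) F} : dual g ∈ Z ↔ g ∈ Z :=
  ⟨fun h => dual_dual g ▸ dual_mem_scalars h, dual_mem_scalars⟩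

theorem det_dual {g : GL (Fin 3) F} (hg : g ∈ specialLinear (Fin 3) F) :
    dual g ∈ specialLinear (Fin 3) F := by
  rw [specialLinear, MonoidHom.mem_ker] at hg ⊢
  refine Units.ext ?_
  have h : (Matrix.GeneralLinearGroup.det g⁻¹ : Fˣ) = 1 := by rw [map_inv, hg, inv_one]
  simpa [dual_val] using congrArg Units.val h

theorem mem_map_dual {M : Subgroup (GL (Fin 3) F)} {g : GL (Fin 3) F} :
    g ∈ M.map dual.toMonoidHom ↔ dual g ∈ M :=
  ⟨fun ⟨x, hx, e⟩ => by rw [← e]; simpa [dual_dual] using hx, fun h => ⟨_, h, dual_dual g⟩⟩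

theorem invt_map_dual {M : Subgroup (GL (Fin 3) F)} (h : Invt G M) :
    Invt (G.map dual.toMonoidHom) (M.map dual.toMonoidHom) := by
  intro g hg a ha
  rw [mem_map_dual] at hg ha ⊢
  rw [map_mul, map_mul, map_inv]
  exact h _ hg _ ha

theorem NoAb.dual (hab : NoAb G) : NoAb (G.map (dual (F := F)).toMonoidHom) := by
  intro A hA hi hc
  have h := hab (A.map (Subgroups.dual (F := F)).toMonoidHom)
    (by rintro _ ⟨a, ha, rfl⟩; exact mem_map_dual.mp (hA ha))
    (fun g hg a ha => by
      rw [mem_map_dual] at ha ⊢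
      rw [map_mul, map_mul, map_inv]
      exact hi _ (mem_map_dual.mpr (by simpa [dual_dual] using hg)) _ ha)
    (fun a ha b hb => by
      rw [mem_map_dual] at ha hb
      have := hc _ ha _ hb
      rwa [← map_commutatorElement, dual_mem_iff] at this)
  exact fun a ha => dual_mem_iff.mp (h ⟨a, ha, rfl⟩)

theorem Layer.dual (h : Layer G P) :
    Layer (G.map (dual (F := F)).toMonoidHom) (P.map (dual (F := F)).toMonoidHom) where
  le := Subgroup.map_mono h.le
  invt := invt_map_dual h.invt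
  perfect := by rw [← Subgroup.map_commutator, h.perfect]
  nscal := fun hle => h.nscal fun x hx => dual_mem_iff.mp (hle ⟨x, hx, rfl⟩)
  minimal := by
    intro M hM hi
    have hMM : (M.map (Subgroups.dual (F := F)).toMonoidHom).map (Subgroups.dual (F := F)).toMonoidHom = M := by
      ext x
      rw [mem_map_dual, mem_map_dual, dual_dual]
    rcases h.minimal (M.map (Subgroups.dual (F := F)).toMonoidHom)
      (by rintro _ ⟨a, ha, rfl⟩; exact mem_map_dual.mp (hM ha))
      (fun g hg a ha => by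
        rw [mem_map_dual] at ha ⊢
        rw [map_mul, map_mul, map_inv]
        exact hi _ (mem_map_dual.mpr (by simpa [dual_dual] using hg)) _ ha) with e | e
    · exact Or.inl fun a ha => dual_mem_iff.mp (e ⟨a, ha, rfl⟩)
    · exact Or.inr (hMM.symm.trans (congrArg _ e))

/-- A perfect subgroup is killed by homomorphisms to soluble groups. -/
theorem hom_eq_one_of_perfect {M H : Type*} [Group M] [Group H] [Group.IsSolvable H] {Q : Subgroup M}
    (h : ⁅Q, Q⁆ = Q) (f : Q →* H) (x : Q) : f x = 1 := by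
  haveI : Group.IsPerfect Q := ⟨by
    refine Subgroup.map_injective Q.subtype_injective ?_
    rw [commutator, Subgroup.map_commutator, ← MonoidHom.range_eq_map, Subgroup.range_subtype, h]⟩
  exact H63.PerfectAction.hom_trivial f x

theorem isPerfect_coe {M : Type*} [Group M] {Q : Subgroup M} (h : ⁅Q, Q⁆ = Q) : Group.IsPerfect Q :=
  ⟨by
    refine Subgroup.map_injective Q.subtype_injective ?_
    rw [commutator, Subgroup.map_commutator, ← MonoidHom.range_eq_map, Subgroup.range_subtype, h]⟩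

theorem exists_gl_col {v : Fin 3 → F} (hv : v ≠ 0) :
    ∃ B : GL (Fin 3) F, ∀ i, (B : M3) i 0 = v i := by
  obtain ⟨i, hi⟩ := Function.ne_iff.mp hv
  simp only [Pi.zero_apply] at hi
  fin_cases i
  · exact ⟨Matrix.GeneralLinearGroup.mkOfDetNeZero !![v 0, 0, 0; v 1, 1, 0; v 2, 0, 1]
      (by simpa [Matrix.det_fin_three] using hi), fun j => by fin_cases j <;> rfl⟩
  · exact ⟨Matrix.GeneralLinearGroup.mkOfDetNeZero !![v 0, 1, 0; v 1, 0, 0; v 2, 0, 1]
      (by simpa [Matrix.det_fin_three] using hi), fun j => by fin_cases j <;> rfl⟩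
  · exact ⟨Matrix.GeneralLinearGroup.mkOfDetNeZero !![v 0, 1, 0; v 1, 0, 1; v 2, 0, 0]
      (by simpa [Matrix.det_fin_three] using hi), fun j => by fin_cases j <;> rfl⟩

/-- The lower block of a matrix with first column `e₀`. -/
def block (X : M3) : Matrix (Fin 2) (Fin 2) F := !![X 1 1, X 1 2; X 2 1, X 2 2]

theorem block_mul {X Y : M3} (hX : X 1 0 = 0 ∧ X 2 0 = 0) : block (X * Y) = block X * block Y := by
  ext i j
  fin_cases i <;> fin_cases j <;>
    simp [block, Matrix.mul_apply, Fin.sum_univ_three, Fin.sum_univ_two, hX.1, hX.2]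

theorem det_block {X : M3} (h0 : X 0 0 = 1) (hX : X 1 0 = 0 ∧ X 2 0 = 0) : (block X).det = X.det := by
  simp [block, Matrix.det_fin_two, Matrix.det_fin_three, h0, hX.1, hX.2]

namespace Layer

variable (hP : Layer G P) (hab : NoAb G) (hG : G ≤ specialLinear (Fin 3) F)
include hP hab hG

/-- A layer has no fixed vector. -/
theorem fixed_eq_zero (p : ℕ) [Fact p.Prime] [CharP F p] (hp : p ≠ 2) {v : Fin 3 → F}
    (hv : ∀ x ∈ P, (x : M3) *ᵥ v = v) : v = 0 := by
  classical
  by_contra hv0
  let W : Submodule F (Fin 3 → F) :=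
    { carrier := {w | ∀ x ∈ P, (x : M3) *ᵥ w = w}
      add_mem' := fun ha hb x hx => by rw [Matrix.mulVec_add, ha x hx, hb x hx]
      zero_mem' := fun x _ => Matrix.mulVec_zero _
      smul_mem' := fun c w hw x hx => by rw [Matrix.mulVec_smul, hw x hx] }
  have hWG : ∀ g ∈ G, ∀ w ∈ W, (g : M3) *ᵥ w ∈ W := by
    intro g hg w hw x hx
    have h1 := hw _ (hP.invt g⁻¹ (G.inv_mem hg) x hx)
    rw [inv_inv] at h1
    have h2 := congrArg (fun u => (g : M3) *ᵥ u) h1
    simp only [Matrix.mulVec_mulVec, ← Units.val_mul, mul_assoc, mul_inv_cancel_left] at h2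
    rw [Matrix.mulVec_mulVec, ← Units.val_mul]
    exact h2
  -- the stabiliser of the quotient by `W`
  let K : Subgroup (GL (Fin 3) F) :=
    { carrier := {x | x ∈ P ∧ ∀ w, (x : M3) *ᵥ w - w ∈ W}
      mul_mem' := fun {a b} ha hb => ⟨P.mul_mem ha.1 hb.1, fun w => by
        have := W.add_mem (ha.2 ((b : M3) *ᵥ w)) (hb.2 w)
        rwa [sub_add_sub_cancel, Matrix.mulVec_mulVec] at this⟩
      one_mem' := ⟨P.one_mem, fun w => by simp⟩
      inv_mem' := fun {a} ha => ⟨P.inv_mem ha.1, fun w => by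
        have := W.neg_mem (ha.2 (((a⁻¹ : GL (Fin 3) F) : M3) *ᵥ w))
        rwa [neg_sub, Matrix.mulVec_mulVec, ← Units.val_mul, mul_inv_cancel, Units.val_one,
          Matrix.one_mulVec] at this⟩ }
  have hKab : ∀ a ∈ K, ∀ b ∈ K, a * b = b * a := by
    intro a ha b hb
    refine Units.ext (Matrix.ext_iff_mulVec.mpr fun w => ?_)
    simp only [Units.val_mul, ← Matrix.mulVec_mulVec]
    have e1 := hb.2 w a ha.1
    have e2 := ha.2 w b hb.1
    rw [Matrix.mulVec_sub] at e1 e2
    linear_combination (norm := module) e1 - e2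
  have hKi : Invt G K := fun g hg a ha => ⟨hP.invt g hg a ha.1, fun w => by
    have := hWG g hg _ (ha.2 (((g⁻¹ : GL (Fin 3) F) : M3) *ᵥ w))
    rwa [Matrix.mulVec_sub, Matrix.mulVec_mulVec, Matrix.mulVec_mulVec, Matrix.mulVec_mulVec,
      ← Units.val_mul, ← Units.val_mul, ← Units.val_mul, mul_inv_cancel, Units.val_one,
      Matrix.one_mulVec] at this⟩
  have hK1 : ∀ a ∈ K, a = 1 := by
    intro a ha
    have hZ := hab K (fun x hx => hP.le hx.1) hKi (fun x hx y hy => by
      rw [commutatorElement_eq_one_iff_mul_comm.mpr (hKab x hx y hy)]; exact one_mem _) ha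
    obtain ⟨u, hu⟩ := (mem_scalars_iff _).mp hZ
    have h1 := hv a ha.1
    rw [hu, Matrix.smul_mulVec, Matrix.one_mulVec] at h1
    have hu1 : (u : F) = 1 := smul_left_injective F hv0 (h1.trans (one_smul F v).symm)
    exact Units.ext (by rw [hu, hu1, one_smul]; rfl)
  -- coordinates with `v` first
  obtain ⟨B, hB⟩ := exists_gl_col hv0
  have hBe : (B : M3) *ᵥ Pi.single 0 1 = v := by
    funext i; simp [hB]
  set c : GL (Fin 3) F → M3 := fun x => ((B⁻¹ * x * B : GL (Fin 3) F) : M3) with hc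
  have hcm : ∀ x y, c (x * y) = c x * c y := fun x y => by
    simp only [hc]; rw [← Units.val_mul]; congr 1; group
  have hcol : ∀ x ∈ P, c x 0 0 = 1 ∧ c x 1 0 = 0 ∧ c x 2 0 = 0 := by
    intro x hx
    have h : c x *ᵥ Pi.single 0 1 = Pi.single 0 1 := by
      simp only [hc, Units.val_mul, ← Matrix.mulVec_mulVec, hBe, hv x hx]
      rw [← hBe, Matrix.mulVec_mulVec, ← Units.val_mul, inv_mul_cancel, Units.val_one, Matrix.one_mulVec]
    refine ⟨?_, ?_, ?_⟩
    · simpa using congrFun h 0
    · simpa using congrFun h 1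
    · simpa using congrFun h 2
  have hdet : ∀ x ∈ P, (block (c x)).det = 1 := fun x hx => by
    rw [det_block (hcol x hx).1 (hcol x hx).2]
    have hn : (specialLinear (Fin 3) F).Normal := MonoidHom.normal_ker _
    have := hn.conj_mem x (hG (hP.le hx)) B⁻¹
    rw [inv_inv] at this
    exact det_of_mem_sl this
  let f : P →* Matrix.SpecialLinearGroup (Fin 2) F :=
    { toFun := fun x => ⟨block (c x), hdet x x.2⟩
      map_one' := Subtype.ext (by
        ext i j; fin_cases i <;> fin_cases j <;> simp [block, hc])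
      map_mul' := fun x y => Subtype.ext (by
        show block (c ((x : GL (Fin 3) F) * y)) = block (c x) * block (c y)
        rw [hcm, block_mul (hcol x x.2).2]) }
  have hf : ∀ x : P, f x = 1 → x = 1 := by
    intro x hx
    have hb : block (c x) = 1 := congrArg Subtype.val hx
    refine Subtype.ext (hK1 _ ⟨x.2, fun w => ?_⟩)
    have h11 : c x 1 1 = 1 := by simpa [block] using congrFun (congrFun hb 0) 0
    have h12 : c x 1 2 = 0 := by simpa [block] using congrFun (congrFun hb 0) 1
    have h21 : c x 2 1 = 0 := by simpa [block] using congrFun (congrFun hb 1) 0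
    have h22 : c x 2 2 = 1 := by simpa [block] using congrFun (congrFun hb 1) 1
    obtain ⟨-, h10, h20⟩ := hcol x x.2
    set u := ((B⁻¹ : GL (Fin 3) F) : M3) *ᵥ w with hu
    have hd : c x *ᵥ u - u = ((c x *ᵥ u - u) 0) • Pi.single 0 1 := by
      funext i
      fin_cases i <;>
        simp [Matrix.mulVec, dotProduct, Fin.sum_univ_three, h10, h20, h11, h12, h21, h22]
    have e : ((x : GL (Fin 3) F) : M3) *ᵥ w - w = (B : M3) *ᵥ (c x *ᵥ u - u) := by
      simp only [hu, hc, Matrix.mulVec_sub, Matrix.mulVec_mulVec, ← Units.val_mul, mul_inv_cancel,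
        Units.val_one, Matrix.one_mulVec]
      congr 3
      group
    rw [e, hd, Matrix.mulVec_smul, hBe]
    exact W.smul_mem _ hv
  haveI := isPerfect_coe hP.perfect
  let π := QuotientGroup.mk' (Subgroup.center (Matrix.SpecialLinearGroup (Fin 2) F))
  have hπ : ∀ x : P, π (f x) = 1 → x * x = 1 := by
    intro x hx
    refine hf _ ?_
    rcases Cfsg.Agent.Linear.mem_center_SL_two.mp ((QuotientGroup.eq_one_iff _).mp hx) with h | h
    · rw [map_mul, h, one_mul]
    · rw [map_mul, h]; exact Subtype.ext (by simp)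
  let g := π.comp f
  haveI : Group.IsPerfect g.range := Group.IsPerfect.range g
  obtain ⟨z, hz, hz1⟩ : ∃ z : P, z * z = 1 ∧ z ≠ 1 := by
    rcases subsingleton_or_nontrivial g.range with h | h
    · exfalso
      have hsq : ∀ x : P, x * x = 1 := fun x => hπ x
        (congrArg Subtype.val (Subsingleton.elim (⟨g x, x, rfl⟩ : g.range) 1))
      haveI : Group.IsSolvable P := Group.isSolvable_of_comm fun a b => by
        have i1 : ∀ a : P, a⁻¹ = a := fun a => inv_eq_of_mul_eq_one_left (hsq a)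
        calc a * b = (a * b)⁻¹ := (i1 _).symm
          _ = b * a := by rw [_root_.mul_inv_rev, i1, i1]
      refine hP.nscal fun x hx => ?_
      rw [show x = 1 from congrArg Subtype.val (hom_eq_one_of_perfect hP.perfect (MonoidHom.id P) ⟨x, hx⟩)]
      exact one_mem _
    · have h2 : 2 ∣ Nat.card g.range := (even_card_of_perfect p hp g.range).two_dvd
      haveI : Fact (Nat.Prime 2) := ⟨Nat.prime_two⟩
      obtain ⟨z, hz⟩ := exists_prime_orderOf_dvd_card' (G := P) 2 (h2.trans (Subgroup.card_range_dvd g))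
      exact ⟨z, by rw [← sq, ← hz]; exact pow_orderOf_eq_one z, fun e => by simp [e] at hz⟩
  have hfz : f z = -1 := by
    have h : ((f z : Matrix.SpecialLinearGroup (Fin 2) F) * f z) = 1 := by rw [← map_mul, hz, map_one]
    rcases Cfsg.Agent.Linear.eq_one_or_neg_one_of_sq (Socle.two_ne_zero_char (F := F) p hp) h with e | e
    · exact absurd (hf z e) hz1
    · exact e
  -- `z` is central
  have hcen : ∀ x : P, x * z = z * x := fun x => by
    have := hf (x * z * x⁻¹ * z⁻¹) (by
      rw [map_mul, map_mul, map_mul, map_inv, map_inv, hfz]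
      exact Subtype.ext (by simp))
    rw [mul_inv_eq_one, mul_inv_eq_iff_eq_mul] at this
    exact this
  let C : Subgroup (GL (Fin 3) F) :=
    { carrier := {a | a ∈ P ∧ ∀ x ∈ P, x * a = a * x}
      mul_mem' := fun {a b} ha hb => ⟨P.mul_mem ha.1 hb.1, fun x hx => by
        rw [← mul_assoc, ha.2 x hx, mul_assoc, hb.2 x hx, mul_assoc]⟩
      one_mem' := ⟨P.one_mem, fun x _ => by simp⟩
      inv_mem' := fun {a} ha => ⟨P.inv_mem ha.1, fun x hx => (show Commute x a from ha.2 x hx).inv_right⟩ }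
  have hzZ := hab C (fun a ha => hP.le ha.1) (fun g hg a ha => ⟨hP.invt g hg a ha.1, fun x hx => by
      have := ha.2 _ (hP.invt g⁻¹ (G.inv_mem hg) x hx)
      rw [inv_inv] at this
      calc x * (g * a * g⁻¹) = g * (g⁻¹ * x * g * a) * g⁻¹ := by group
        _ = g * (a * (g⁻¹ * x * g)) * g⁻¹ := by rw [this]
        _ = g * a * g⁻¹ * x := by group⟩)
    (fun a ha b hb => by
      rw [commutatorElement_eq_one_iff_mul_comm.mpr (hb.2 a ha.1)]; exact one_mem _)
    (show (z : GL (Fin 3) F) ∈ C from ⟨z.2, fun x hx => congrArg Subtype.val (hcen ⟨x, hx⟩)⟩)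
  obtain ⟨u, hu⟩ := (mem_scalars_iff _).mp hzZ
  have h1 := hv z z.2
  rw [hu, Matrix.smul_mulVec, Matrix.one_mulVec] at h1
  refine hz1 (Subtype.ext (Units.ext ?_))
  rw [hu, smul_left_injective F hv0 (h1.trans (one_smul F v).symm), one_smul]
  rfl

/-- A layer has no invariant line. -/
theorem eigen_eq_zero (p : ℕ) [Fact p.Prime] [CharP F p] (hp : p ≠ 2) {v : Fin 3 → F}
    (hv : ∀ x ∈ P, ∃ c : F, (x : M3) *ᵥ v = c • v) : v = 0 := by
  by_contra hv0
  choose c hc using fun x : P => hv x x.2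
  have hc0 : ∀ x, c x ≠ 0 := fun x h => hv0 (by
    have := hc x
    rw [h, zero_smul] at this
    have := congrArg (fun u => ((x : GL (Fin 3) F)⁻¹ : GL (Fin 3) F).1 *ᵥ u) this
    simpa [Matrix.mulVec_mulVec] using this)
  let f : P →* Fˣ :=
    { toFun := fun x => Units.mk0 (c x) (hc0 x)
      map_one' := Units.ext (smul_left_injective F hv0 (by simp [← hc]))
      map_mul' := fun x y => Units.ext (smul_left_injective F hv0 (by
        show c (x * y) • v = (c x * c y) • v
        rw [← hc, Subgroup.coe_mul, Units.val_mul, ← Matrix.mulVec_mulVec, hc y, Matrix.mulVec_smul,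
          hc x, smul_smul, mul_comm])) }
  haveI : Group.IsSolvable Fˣ := Group.isSolvable_of_comm fun a b => mul_comm a b
  refine hv0 (fixed_eq_zero hP hab hG p hp fun x hx => ?_)
  have h1 : c ⟨x, hx⟩ = 1 := congrArg Units.val (hom_eq_one_of_perfect hP.perfect f ⟨x, hx⟩)
  have := hc ⟨x, hx⟩
  rwa [h1, one_smul] at this

/-- A layer is irreducible. -/
theorem irreducible (p : ℕ) [Fact p.Prime] [CharP F p] (hp : p ≠ 2) :
    ActsIrreducibly (matrixSet P) := by
  intro W hW
  have hWm : ∀ x ∈ P, ∀ w ∈ W, (x : M3) *ᵥ w ∈ W := fun x hx w hw =>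
    hW _ ⟨x, hx, rfl⟩ ⟨w, hw, rfl⟩
  by_contra hne
  push Not at hne
  have h3 : Module.finrank F W < 3 := by
    have := Submodule.finrank_lt hne.2
    simpa using this
  have h0 : 0 < Module.finrank F W := by
    rw [Nat.pos_iff_ne_zero]
    exact fun h => hne.1 (Submodule.finrank_eq_zero.mp h)
  rcases (show Module.finrank F W = 1 ∨ Module.finrank F W = 2 by omega) with h | h
  · obtain ⟨⟨v, hv⟩, hv0, hspan⟩ := finrank_eq_one_iff'.mp h
    refine hv0 (Subtype.ext (eigen_eq_zero hP hab hG p hp (v := v) fun x hx => ?_))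
    obtain ⟨c, hc⟩ := hspan ⟨_, hWm x hx v hv⟩
    exact ⟨c, (congrArg Subtype.val hc).symm⟩
  · -- the annihilator is an invariant line of the dual
    let A : Submodule F (Fin 3 → F) :=
      { carrier := {φ | ∀ w ∈ W, φ ⬝ᵥ w = 0}
        add_mem' := fun ha hb w hw => by rw [add_dotProduct, ha w hw, hb w hw, add_zero]
        zero_mem' := fun w _ => zero_dotProduct w
        smul_mem' := fun c φ hφ w hw => by rw [smul_dotProduct, hφ w hw, smul_zero] }
    obtain ⟨φ, hφW, hφ0⟩ : ∃ φ ∈ A, φ ≠ 0 := by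
      obtain ⟨f, hf0, hfW⟩ := W.exists_dual_map_eq_bot_of_lt_top hne.2.lt_top inferInstance
      refine ⟨fun i => f (Pi.single i 1), fun w hw => ?_, fun h => hf0 ?_⟩
      · have hw0 : f w = 0 := by
          have := Submodule.mem_map_of_mem (f := f) hw
          rwa [hfW, Submodule.mem_bot] at this
        conv_rhs => rw [← hw0, pi_eq_sum_univ' w, map_sum]
        simp [dotProduct, mul_comm]
      · refine LinearMap.ext fun w => ?_
        rw [pi_eq_sum_univ' w, map_sum]
        simp [fun i => congrFun h i]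
    have hA1 : ∀ ψ ∈ A, ∃ c : F, ψ = c • φ := by
      intro ψ hψ
      by_contra hno
      push Not at hno
      have hli : LinearIndependent F ![φ, ψ] :=
        (LinearIndependent.pair_iff' hφ0).mpr fun a e => hno a e.symm
      let T : (Fin 3 → F) →ₗ[F] (Fin 2 → F) :=
        Matrix.mulVecLin (Matrix.of ![φ, ψ])
      have hker : W ≤ LinearMap.ker T := fun w hw => by
        rw [LinearMap.mem_ker]; funext i; fin_cases i
        · exact hφW w hw
        · exact hψ w hw
      have h1 := Submodule.finrank_mono hker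
      have h2 := T.finrank_range_add_finrank_ker
      have h4 : Module.finrank F (LinearMap.range T) = 2 := by
        show (Matrix.of ![φ, ψ]).rank = 2
        rw [Matrix.rank_eq_finrank_span_row]
        rw [show (Matrix.of ![φ, ψ]).row = ![φ, ψ] from rfl, finrank_span_eq_card hli]
        simp
      simp only [Module.finrank_pi, Fintype.card_fin] at h2
      omega
    refine hφ0 (eigen_eq_zero (Layer.dual hP) (NoAb.dual hab)
      (by rintro _ ⟨g, hg, rfl⟩; exact det_dual (hG hg)) p hp fun x hx => ?_)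
    rw [mem_map_dual] at hx
    obtain ⟨c, hc⟩ := hA1 (((x : GL (Fin 3) F) : M3) *ᵥ φ) fun w hw => by
      have := hφW _ (hWm _ (P.inv_mem hx) w hw)
      rw [Matrix.dotProduct_mulVec] at this
      rw [show (((Subgroups.dual x)⁻¹ : GL (Fin 3) F) : M3) = (x : M3)ᵀ from rfl] at this
      rwa [Matrix.vecMul_transpose] at this
    exact ⟨c, hc⟩

/-- A layer is absolutely irreducible. -/
theorem abs (p : ℕ) [Fact p.Prime] [CharP F p] (hp : p ≠ 2) :
    ActsAbsolutelyIrreducibly (matrixSet P) := by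
  classical
  have hirr := irreducible hP hab hG p hp
  refine ⟨hirr, fun X hX => ?_⟩
  by_contra hno
  push Not at hno
  have heig : ∀ Y : M3, (∀ x ∈ P, Y * (x : M3) = (x : M3) * Y) → Y ≠ 0 → IsUnit Y := by
    intro Y hY hY0
    rw [Matrix.isUnit_iff_isUnit_det, isUnit_iff_ne_zero]
    intro hd
    obtain ⟨w, hw0, hw⟩ := Matrix.exists_mulVec_eq_zero_iff.mpr hd
    rcases hirr (LinearMap.ker Y.mulVecLin) (by
      rintro _ ⟨x, hx, rfl⟩ _ ⟨u, hu, rfl⟩
      simp only [SetLike.mem_coe, LinearMap.mem_ker, Matrix.mulVecLin_apply] at hu ⊢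
      rw [Matrix.toLin'_apply, Matrix.mulVec_mulVec, hY x hx, ← Matrix.mulVec_mulVec, hu,
        Matrix.mulVec_zero]) with h | h
    · exact hw0 ((Submodule.mem_bot F).mp (h ▸ (show w ∈ LinearMap.ker Y.mulVecLin from hw)))
    · exact hY0 (Matrix.ext_iff_mulVec.mpr fun u => by
        rw [Matrix.zero_mulVec]
        exact (h ▸ Submodule.mem_top : u ∈ LinearMap.ker Y.mulVecLin))
  have hroot : ∀ a : F, IsUnit (X - a • 1) := fun a => heig _
    (fun x hx => by rw [sub_mul, mul_sub, hX _ ⟨x, hx, rfl⟩, smul_mul_assoc, mul_smul_comm, one_mul, mul_one])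
    (sub_ne_zero.mpr (hno a))
  -- every nonzero vector is cyclic
  let e₀ : Fin 3 → F := Pi.single 0 1
  let L : (Fin 3 → F) →ₗ[F] (Fin 3 → F) :=
    { toFun := fun a => a 0 • e₀ + a 1 • (X *ᵥ e₀) + a 2 • (X *ᵥ (X *ᵥ e₀))
      map_add' := fun a b => by simp only [Pi.add_apply, add_smul]; abel
      map_smul' := fun r a => by simp [smul_add, smul_smul] }
  have hpoly : ∀ a : Fin 3 → F, (∀ x ∈ P, (a 0 • 1 + a 1 • X + a 2 • (X * X)) * (x : M3) =
      (x : M3) * (a 0 • 1 + a 1 • X + a 2 • (X * X))) := fun a x hx => by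
    have h1 := hX _ ⟨x, hx, rfl⟩
    have h2 : X * X * (x : M3) = (x : M3) * (X * X) := by rw [mul_assoc, h1, ← mul_assoc, h1, mul_assoc]
    simp only [add_mul, mul_add, smul_mul_assoc, mul_smul_comm, one_mul, mul_one, h1, h2]
  have hquad : ∀ a : Fin 3 → F, a 0 • (1 : M3) + a 1 • X + a 2 • (X * X) = 0 → a = 0 := by
    intro a h
    by_cases h2 : a 2 = 0
    · rw [h2, zero_smul, add_zero] at h
      by_cases h1 : a 1 = 0
      · rw [h1, zero_smul, add_zero, smul_eq_zero, or_iff_left one_ne_zero] at h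
        funext i; fin_cases i <;> simp [h, h1, h2]
      · exfalso
        refine hno (-(a 1)⁻¹ * a 0) ?_
        have := congrArg ((a 1)⁻¹ • ·) h
        simp only [smul_add, smul_smul, inv_mul_cancel₀ h1, one_smul, smul_zero] at this
        rw [neg_mul, neg_smul]
        exact eq_neg_of_add_eq_zero_right this
    · exfalso
      -- a quadratic relation: complete the square
      have h20 : (2 : F) ≠ 0 := Socle.two_ne_zero_char (F := F) p hp
      let e := (2 * a 2)⁻¹ * a 1
      set Y : M3 := X + e • 1 with hY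
      have h22 : (2 : F) * a 2 ≠ 0 := mul_ne_zero h20 h2
      have hYY : Y * Y = (e * e - (a 2)⁻¹ * a 0) • 1 := by
        have h' := congrArg ((a 2)⁻¹ • ·) h
        simp only [smul_add, smul_smul, inv_mul_cancel₀ h2, one_smul, smul_zero] at h'
        have he : e + e = (a 2)⁻¹ * a 1 := by simp only [e]; field_simp; ring
        simp only [hY, add_mul, mul_add, smul_mul_assoc, mul_smul_comm, one_mul, mul_one, smul_smul]
        rw [← he] at h'
        linear_combination (norm := module) h'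
      set D := e * e - (a 2)⁻¹ * a 0 with hD
      have hYu : IsUnit Y.det := by
        have := (Matrix.isUnit_iff_isUnit_det _).mp (hroot (-e))
        rwa [show X - (-e) • (1 : M3) = Y by rw [hY, neg_smul, sub_neg_eq_add]] at this
      have hdd : Y.det * Y.det = D ^ 3 := by
        rw [← Matrix.det_mul, hYY, Matrix.det_smul, Matrix.det_one, mul_one, Fintype.card_fin]
      have hD0 : D ≠ 0 := fun h0 => by
        rw [h0, zero_pow three_ne_zero, mul_self_eq_zero] at hdd
        exact hYu.ne_zero hdd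
      set r := Y.det / D with hr
      have hrr : r * r = D := by rw [hr]; field_simp; linear_combination hdd
      have hz : (X - (r - e) • 1) * (X - (-r - e) • 1) = 0 := by
        rw [show X - (r - e) • (1 : M3) = Y - r • 1 by rw [hY, sub_smul]; abel,
          show X - (-r - e) • (1 : M3) = Y + r • 1 by rw [hY, sub_smul, neg_smul]; abel]
        simp only [sub_mul, mul_add, smul_mul_assoc, mul_smul_comm, one_mul, mul_one, smul_smul, hYY, hrr]
        linear_combination (norm := module) -(congrArg (fun t : F => t • (1 : M3)) hrr)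
      obtain ⟨w, hw⟩ := (hroot (r - e)).mul (hroot (-r - e))
      exact w.ne_zero (hw.trans hz)
  have hinj : Function.Injective L := by
    rw [← LinearMap.ker_eq_bot, LinearMap.ker_eq_bot']
    intro a ha
    change a 0 • e₀ + a 1 • (X *ᵥ e₀) + a 2 • (X *ᵥ (X *ᵥ e₀)) = 0 at ha
    refine hquad a (by_contra fun hne => ?_)
    have h1 := heig _ (hpoly a) hne
    have h2 : (a 0 • (1 : M3) + a 1 • X + a 2 • (X * X)) *ᵥ e₀ = 0 := by
      simpa [Matrix.add_mulVec, Matrix.smul_mulVec, ← Matrix.mulVec_mulVec] using ha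
    have h3 := Matrix.mulVec_injective_iff_isUnit.mpr h1 (h2.trans (Matrix.mulVec_zero _).symm)
    simpa [e₀] using congrFun h3 0
  have hsurj : Function.Surjective L := LinearMap.injective_iff_surjective.mp hinj
  have hpol : ∀ x ∈ P, ∃ a : Fin 3 → F, (x : M3) = a 0 • 1 + a 1 • X + a 2 • (X * X) := by
    intro x hx
    obtain ⟨a, ha⟩ := hsurj ((x : M3) *ᵥ e₀)
    refine ⟨a, Matrix.ext_iff_mulVec.mpr fun w => ?_⟩
    obtain ⟨b, rfl⟩ := hsurj w
    have hcx : ∀ Y : M3, (x : M3) * Y = Y * (x : M3) → (a 0 • 1 + a 1 • X + a 2 • (X * X)) * Y =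
        Y * (a 0 • 1 + a 1 • X + a 2 • (X * X)) → (x : M3) *ᵥ (Y *ᵥ e₀) =
        (a 0 • 1 + a 1 • X + a 2 • (X * X)) *ᵥ (Y *ᵥ e₀) := by
      intro Y h1 h2
      rw [Matrix.mulVec_mulVec, Matrix.mulVec_mulVec, h1, h2, ← Matrix.mulVec_mulVec,
        ← Matrix.mulVec_mulVec, ← ha]
      simp [L, Matrix.add_mulVec, Matrix.smul_mulVec, ← Matrix.mulVec_mulVec]
    have hb : L b = (b 0 • 1 + b 1 • X + b 2 • (X * X) : M3) *ᵥ e₀ := by
      simp [L, Matrix.add_mulVec, Matrix.smul_mulVec, ← Matrix.mulVec_mulVec]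
    rw [hb]
    refine hcx _ (hpoly b x hx).symm ?_
    simp only [add_mul, mul_add, smul_mul_assoc, mul_smul_comm, one_mul, mul_one, mul_assoc, smul_add,
      smul_smul]
    module
  refine hP.nscal fun x hx => ?_
  have hcomm : ∀ a ∈ P, ∀ b ∈ P, a * b = b * a := by
    intro a ha b hb
    obtain ⟨c, hc⟩ := hpol a ha
    exact Units.ext (by rw [Units.val_mul, Units.val_mul, hc, hpoly c b hb])
  have h1 : ⁅P, P⁆ = ⊥ := (Subgroup.commutator_eq_bot_iff_le_centralizer).mpr fun a ha =>
    Subgroup.mem_centralizer_iff.mpr fun b hb => hcomm b hb a ha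
  rw [← hP.perfect, h1, Subgroup.mem_bot] at hx
  exact hx ▸ one_mem _

end Layer

/-- Elements centralising `P` modulo scalars are scalars. -/
theorem scalar_of_centralises (hperf : ⁅P, P⁆ = P) (habs : ActsAbsolutelyIrreducibly (matrixSet P))
    {h : GL (Fin 3) F} (hh : ∀ x ∈ P, ⁅h, x⁆ ∈ Z) : h ∈ Z := by
  choose u hu using fun x : P => (mem_scalars_iff _).mp (hh x x.2)
  have hcm : ∀ x : P, ((h * x * h⁻¹ : GL (Fin 3) F) : M3) = (u x : F) • ((x : GL (Fin 3) F) : M3) := fun x => by
    have e : h * (x : GL (Fin 3) F) * h⁻¹ = ⁅h, (x : GL (Fin 3) F)⁆ * x := by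
      rw [commutatorElement_def]; group
    rw [e, Units.val_mul, hu, smul_mul_assoc, one_mul]
  let f : P →* Fˣ :=
    { toFun := u
      map_one' := Units.ext (scalar_eq (by
        rw [← hu]; simp [commutatorElement_def]))
      map_mul' := fun x y => Units.ext (by
        have e : ((h * (x * y : P) * h⁻¹ : GL (Fin 3) F) : M3) =
            ((u x * u y : Fˣ) : F) • (((x * y : P) : GL (Fin 3) F) : M3) := by
          rw [Subgroup.coe_mul, show h * ((x : GL (Fin 3) F) * y) * h⁻¹ = (h * x * h⁻¹) * (h * y * h⁻¹) by group,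
            Units.val_mul, hcm, hcm, smul_mul_smul_comm, Units.val_mul, Units.val_mul]
        rw [hcm] at e
        have h1 := congrArg (· * ((((x * y : P) : GL (Fin 3) F)⁻¹ : GL (Fin 3) F) : M3)) e
        simp only [smul_mul_assoc, Units.mul_inv] at h1
        exact scalar_eq h1) }
  haveI : Group.IsSolvable Fˣ := Group.isSolvable_of_comm fun a b => mul_comm a b
  obtain ⟨c, hc⟩ := habs.2 (h : M3) (by
    rintro _ ⟨x, hx, rfl⟩
    have h1 : u ⟨x, hx⟩ = 1 := hom_eq_one_of_perfect hperf f ⟨x, hx⟩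
    have := hu ⟨x, hx⟩
    rw [h1, Units.val_one, one_smul] at this
    have h2 : ⁅h, x⁆ = 1 := Units.ext this
    exact congrArg Units.val (commutatorElement_eq_one_iff_mul_comm.mp h2))
  refine (mem_scalars_iff _).mpr ⟨Units.mk0 c fun h0 => ?_, hc⟩
  have := Matrix.GeneralLinearGroup.det_ne_zero h
  simp [hc, h0] at this

/-- A layer is simple modulo scalars. -/
theorem Layer.setting (hP : Layer G P) (hab : NoAb G) (hG : G ≤ specialLinear (Fin 3) F)
    (p : ℕ) [Fact p.Prime] [CharP F p] (hp : p ≠ 2) : Setting P := by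
  classical
  have habs := hP.abs hab hG p hp
  have habP : NoAb P := by
    intro A hA hi hc
    by_contra hns
    -- the conjugates of `A` generate a soluble invariant subgroup
    have hne : Invt P A := hi
    haveI hAn : (A.subgroupOf P).Normal := ⟨fun a ha g => hne g g.2 a ha⟩
    let T : G → Subgroup P := fun g => (A.map (MulAut.conj (g : GL (Fin 3) F)).toMonoidHom).subgroupOf P
    have hTn : ∀ g, (T g).Normal := fun g => ⟨fun a ha x => by
      obtain ⟨b, hb, e⟩ := Subgroup.mem_subgroupOf.mp ha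
      refine Subgroup.mem_subgroupOf.mpr ⟨_, hne _ (hP.invt _ (G.inv_mem g.2) x x.2) b hb, ?_⟩
      rw [Subgroup.coe_mul, Subgroup.coe_mul, Subgroup.coe_inv, ← e]
      simp only [MulEquiv.toMonoidHom_eq_coe, MonoidHom.coe_coe, MulAut.conj_apply, inv_inv]
      group⟩
    have hTs : ∀ g, Group.IsSolvable (T g) := fun g => by
      let S := (Z).subgroupOf P
      let π : T g →* P ⧸ S := (QuotientGroup.mk' S).comp (T g).subtype
      haveI : Group.IsSolvable π.ker := Group.isSolvable_of_comm fun a b => by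
        have ha := Subgroup.mem_subgroupOf.mp ((QuotientGroup.eq_one_iff _).mp a.2)
        obtain ⟨u, hu⟩ := (mem_scalars_iff _).mp ha
        change ((((a : T g) : P) : GL (Fin 3) F) : M3) = _ at hu
        refine Subtype.ext (Subtype.ext (Subtype.ext (Units.ext ?_)))
        simp only [Subgroup.coe_mul, Units.val_mul]
        rw [hu, smul_mul_assoc, one_mul, mul_smul_comm, mul_one]
      haveI : Group.IsSolvable π.range := Group.isSolvable_of_comm fun a b => by
        obtain ⟨_, x, rfl⟩ := a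
        obtain ⟨_, y, rfl⟩ := b
        refine Subtype.ext ?_
        show π x * π y = π y * π x
        rw [← commutatorElement_eq_one_iff_mul_comm, ← map_commutatorElement]
        refine (QuotientGroup.eq_one_iff _).mpr (Subgroup.mem_subgroupOf.mpr ?_)
        obtain ⟨a, ha, e1⟩ := Subgroup.mem_subgroupOf.mp x.2
        obtain ⟨b, hb, e2⟩ := Subgroup.mem_subgroupOf.mp y.2
        have : ((⁅x, y⁆ : T g) : GL (Fin 3) F) = (g : GL (Fin 3) F) * ⁅a, b⁆ * (g : GL (Fin 3) F)⁻¹ := by
          simp only [commutatorElement_def, Subgroup.coe_mul, Subgroup.coe_inv, ← e1, ← e2,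
            MulEquiv.toMonoidHom_eq_coe, MonoidHom.coe_coe, MulAut.conj_apply]
          group
        exact this ▸ (scalars_normal (ι := Fin 3) (F := F)).conj_mem _ (hc a ha b hb) _
      exact solvable_of_ker_le_range π.ker.subtype π.rangeRestrict (by
        rw [MonoidHom.ker_rangeRestrict, Subgroup.range_subtype])
    have hsup : ∀ s : Finset G, Group.IsSolvable ↥(s.sup T) ∧ (s.sup T).Normal := by
      intro s
      induction s using Finset.induction with
      | empty => rw [Finset.sup_empty]; exact ⟨inferInstance, inferInstance⟩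
      | insert g s _ ih =>
        haveI := ih.1; haveI := ih.2; haveI := hTn g; haveI := hTs g
        rw [Finset.sup_insert]
        exact ⟨H40.isSolvable_sup (le_top.trans (le_of_eq (Subgroup.normalizer_eq_top_iff.mpr (hTn g)).symm)) (hTs g) ih.1, Subgroup.sup_normal _ _⟩
    haveI : Finite G := inferInstance
    letI : Fintype G := Fintype.ofFinite G
    set R := (Finset.univ : Finset G).sup T with hR
    have hTle : ∀ g, T g ≤ R := fun g => Finset.le_sup (Finset.mem_univ g)
    let M := R.map P.subtype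
    have hMi : Invt G M := by
      intro g hg a ha
      have : M.map (MulAut.conj g).toMonoidHom ≤ M := by
        rw [show M = ⨆ k : G, (T k).map P.subtype by
          rw [← Subgroup.map_iSup, ← Finset.sup_univ_eq_iSup]]
        rw [Subgroup.map_iSup]
        refine iSup_le fun k => le_trans ?_ (le_iSup _ (⟨g, hg⟩ * k))
        rintro _ ⟨_, ⟨x, hx, rfl⟩, rfl⟩
        obtain ⟨b, hb, e⟩ := Subgroup.mem_subgroupOf.mp hx
        refine ⟨⟨g * x * g⁻¹, hP.invt g hg x x.2⟩, Subgroup.mem_subgroupOf.mpr ⟨b, hb, ?_⟩, rfl⟩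
        simp only [MulEquiv.toMonoidHom_eq_coe, MonoidHom.coe_coe, MulAut.conj_apply] at e ⊢
        rw [Subgroup.coe_mul, ← e]
        group
      exact this ⟨a, ha, rfl⟩
    have hAM : A ≤ M := fun a ha => ⟨⟨a, hA ha⟩, hTle 1 (Subgroup.mem_subgroupOf.mpr ⟨a, ha, by simp⟩), rfl⟩
    rcases hP.minimal M (by rintro _ ⟨x, -, rfl⟩; exact x.2) hMi with h | h
    · exact hns (hAM.trans h)
    · haveI := (hsup Finset.univ).1
      have hMs : Group.IsSolvable M :=
        solvable_of_surjective (f := (R.equivMapOfInjective P.subtype P.subtype_injective).toMonoidHom)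
          (MulEquiv.surjective _)
      haveI : Group.IsSolvable P := h ▸ hMs
      refine hP.nscal fun x hx => ?_
      rw [show x = 1 from congrArg Subtype.val (hom_eq_one_of_perfect hP.perfect (MonoidHom.id P) ⟨x, hx⟩)]
      exact one_mem _
  -- a minimal normal subgroup of `P` is `G`-invariant
  have key : ∀ M ≤ P, Invt P M → ¬ M ≤ Z → M = P := by
    intro M hM hMi hMns
    obtain ⟨T, hTM, hT⟩ := exists_layer habP hM hMi hMns
    have hTabs := hT.abs habP (hP.le.trans hG) p hp
    refine le_antisymm hM (le_trans (le_of_eq ?_) hTM)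
    refine ((hP.minimal T hT.le fun g hg a ha => ?_).resolve_left hT.nscal).symm
    set T' := T.map (MulAut.conj g).toMonoidHom with hT'
    by_contra hout
    have hT'P : T' ≤ P := by rintro _ ⟨x, hx, rfl⟩; exact hP.invt g hg x (hT.le hx)
    have hT'i : Invt P T' := by
      rintro x hx _ ⟨b, hb, rfl⟩
      refine ⟨_, hT.invt _ (hP.invt g⁻¹ (G.inv_mem hg) x hx) b hb, ?_⟩
      simp only [MulEquiv.toMonoidHom_eq_coe, MonoidHom.coe_coe, MulAut.conj_apply, inv_inv]
      group
    have hint : T ⊓ T' ≤ Z := (hT.minimal (T ⊓ T') inf_le_left fun x hx b hb =>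
      ⟨hT.invt x hx b hb.1, hT'i x hx b hb.2⟩).resolve_right fun h => hout (by
        have hle : T ≤ T' := h ▸ inf_le_right
        have := Subgroup.eq_of_le_of_card_ge hle (by
          rw [hT', Subgroup.card_map_of_injective (MulAut.conj g).injective])
        rw [this]; exact ⟨a, ha, rfl⟩)
    -- so the conjugate centralises `T` modulo scalars
    have hT'Z : T' ≤ Z := fun y hy =>
      scalar_of_centralises hT.perfect hTabs fun x hx => hint ⟨
        T.mul_mem (hT.invt y (hT'P hy) x hx) (T.inv_mem hx), by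
          rw [commutatorElement_def, mul_assoc (y * _), mul_assoc y, ← mul_assoc x]
          exact T'.mul_mem hy (hT'i _ (hT.le hx) _ (T'.inv_mem hy))⟩
    exact hT.nscal fun x hx => (conj_scalar_iff g x).mp (hT'Z ⟨x, hx, rfl⟩)
  refine ⟨hP.le.trans hG, hP.perfect, habs, ?_⟩
  haveI : Nontrivial (P ⧸ (Z).subgroupOf P) := by
    obtain ⟨x, hx, hxs⟩ := SetLike.not_le_iff_exists.mp hP.nscal
    exact ⟨⟨QuotientGroup.mk ⟨x, hx⟩, 1, fun e => hxs (Subgroup.mem_subgroupOf.mp ((QuotientGroup.eq_one_iff _).mp e))⟩⟩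
  refine ⟨fun N hN => ?_⟩
  let M := (N.comap (QuotientGroup.mk' ((Z).subgroupOf P))).map P.subtype
  by_cases hns : M ≤ Z
  · left
    rw [eq_bot_iff]
    intro n hn
    obtain ⟨x, rfl⟩ := QuotientGroup.mk_surjective n
    exact Subgroup.mem_bot.mpr ((QuotientGroup.eq_one_iff _).mpr (Subgroup.mem_subgroupOf.mpr (hns ⟨x, hn, rfl⟩)))
  · right
    have hMP := key M (by rintro _ ⟨x, -, rfl⟩; exact x.2) (by
      rintro g hg _ ⟨x, hx, rfl⟩
      exact ⟨⟨g, hg⟩ * x * ⟨g, hg⟩⁻¹, (hN.comap _).conj_mem x hx _, rfl⟩) hns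
    rw [eq_top_iff]
    intro n _
    obtain ⟨x, rfl⟩ := QuotientGroup.mk_surjective n
    obtain ⟨y, hy, e⟩ := hMP.ge x.2
    obtain rfl : y = x := Subtype.ext e
    exact hy

end Cfsg.Agent.Linear.Mitchell.Subgroups
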