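import Cfsg.Agent.Linear.Mitchell.Subgroups.Transfer
import Cfsg.Agent.Unitary.Center

/-!
The subgroups normalising `SL₃` or `SU₃` over a subfield: `PSL₃`, `PSU₃` and extensions of index three.
-/

set_option autoImplicit false
set_option linter.style.haveILetI false

namespace Cfsg.Agent.Linear.Mitchell.Subgroups

open scoped MatrixGroups Matrix commutatorElement
open Cfsg.Geo Cfsg.Agent.Linear.Mitchell.Socle

variable {F : Type*} [Field F] [Fintype F] {G P : Subgroup (GL (Fin 3) F)} {K : Subfield F}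

local notation "M3" => Matrix (Fin 3) (Fin 3) F
local notation "MK" => Matrix (Fin 3) (Fin 3) K

/-- Extension of the entries. -/
abbrev incM (K : Subfield F) : Matrix (Fin 3) (Fin 3) K →+* Matrix (Fin 3) (Fin 3) F :=
  (K.subtype : K →+* F).mapMatrix

theorem incM_smul (r : K) (k : MK) : incM K (r • k) = (r : F) • incM K k := by
  ext i j; simp [RingHom.mapMatrix_apply]

theorem incM_inj : Function.Injective (incM K) := fun a b h =>
  Matrix.ext fun i j => Subtype.ext (by simpa [RingHom.mapMatrix_apply] using congrFun (congrFun h i) j)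

theorem incM_incl (x : GL (Fin 3) K) : incM K (x : MK) = (inclGL K x : M3) := rfl

theorem incM_scalar (r : Kˣ) :
    incM K ((Matrix.GeneralLinearGroup.scalar (Fin 3) r : GL (Fin 3) K) : MK) = ((r : K) : F) • (1 : M3) := by
  show incM K (Matrix.scalar (Fin 3) (r : K)) = _
  ext a b
  by_cases hab : a = b <;> simp [RingHom.mapMatrix_apply, Matrix.scalar_apply, hab]

theorem incM_det (k : MK) : (incM K k).det = ((k.det : K) : F) :=
  ((K.subtype : K →+* F).map_det k).symm

/-- Elements normalising an absolutely irreducible group over `K` are `K`-rational up to a scalar. -/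
theorem exists_smul_rational (hS : Setting P) {L : Subgroup (GL (Fin 3) K)}
    (hP : P = L.map (inclGL K)) {h : GL (Fin 3) F} (hn : ∀ x ∈ P, h * x * h⁻¹ ∈ P) :
    ∃ (c : F) (k : GL (Fin 3) K), c ≠ 0 ∧ (h : M3) = c • (inclGL K k : M3) := by
  classical
  obtain ⟨b, g, hg, hbg⟩ := Mitchell.exists_basis hS.abs
  have hgk : ∀ i, ∃ y ∈ L, inclGL K y = g i := fun i => by
    have := hg i
    rw [hP] at this
    exact this
  choose y hy hye using hgk
  have hbi : ∀ i, incM K (y i : MK) = b i := fun i => by rw [incM_incl, hye, hbg]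
  have hli : LinearIndependent K fun i => (y i : MK) := by
    rw [Fintype.linearIndependent_iff]
    intro r hr i
    have := congrArg (incM K) hr
    simp only [map_sum, incM_smul, hbi, map_zero] at this
    exact Subtype.ext (Fintype.linearIndependent_iff.mp b.linearIndependent _ this i)
  have hspan : Submodule.span K (Set.range fun i => (y i : MK)) = ⊤ :=
    hli.span_eq_top_of_card_eq_finrank' (by
      have := Module.finrank_eq_card_basis b
      simp [Module.finrank_matrix] at this ⊢)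
  have hent : ∀ (M : MK) (a c : Fin 3), ((h : M3) * incM K M * ((h⁻¹ : GL (Fin 3) F) : M3)) a c ∈ K := by
    intro M
    have hM : M ∈ Submodule.span K (Set.range fun i => (y i : MK)) := hspan ▸ Submodule.mem_top
    induction hM using Submodule.span_induction with
    | mem Y hY =>
      obtain ⟨i, rfl⟩ := hY
      intro a c
      have hm := hn (g i) (hg i)
      rw [hP] at hm
      obtain ⟨x, -, hx⟩ := hm
      rw [incM_incl, hye, ← Units.val_mul, ← Units.val_mul, ← hx]
      exact ((x : MK) a c).2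
    | zero => intro a c; simp
    | add A B _ _ hA hB =>
      intro a c
      rw [map_add, mul_add, add_mul]
      exact K.add_mem (hA a c) (hB a c)
    | smul r A _ hA =>
      intro a c
      rw [incM_smul, mul_smul_comm, smul_mul_assoc]
      exact K.mul_mem r.2 (hA a c)
  obtain ⟨j, b', hjb⟩ : ∃ j b', ((h⁻¹ : GL (Fin 3) F) : M3) j b' ≠ 0 := by
    by_contra hz
    push Not at hz
    have := Matrix.GeneralLinearGroup.det_ne_zero h⁻¹
    rw [show ((h⁻¹ : GL (Fin 3) F) : M3) = 0 from Matrix.ext hz] at this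
    simp at this
  set d := ((h⁻¹ : GL (Fin 3) F) : M3) j b' with hd
  have hx : ∀ a i, (h : M3) a i * d ∈ K := fun a i => by
    have := hent (Matrix.single i j 1) a b'
    have e : incM K (Matrix.single i j (1 : K)) = Matrix.single i j (1 : F) := by
      ext u v
      by_cases hu : i = u <;> by_cases hv : j = v <;> simp [RingHom.mapMatrix_apply, Matrix.single_apply, hu, hv]
    rw [e] at this
    simpa [Matrix.mul_apply, Matrix.single_apply, hd, ite_and] using this
  let k : MK := Matrix.of fun a i => ⟨(h : M3) a i * d, hx a i⟩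
  have hk : (h : M3) = d⁻¹ • incM K k := by
    ext a i
    simp [k, RingHom.mapMatrix_apply]
    field_simp
  have hkd : k.det ≠ 0 := fun h0 => Matrix.GeneralLinearGroup.det_ne_zero h (by
    rw [hk, Matrix.det_smul, incM_det, h0]; simp)
  exact ⟨d⁻¹, Matrix.GeneralLinearGroup.mkOfDetNeZero k hkd, inv_ne_zero hjb, hk⟩

/-- The index of `F P` among the elements rational over `K` up to scalars. -/
theorem index_split (hG : G ≤ specialLinear (Fin 3) F) (hle : P ≤ G)
    (N : Subgroup (GL (Fin 3) K)) (U : Subgroup Kˣ)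
    (hdet : ∀ k ∈ N, Matrix.GeneralLinearGroup.det k ∈ U)
    (hU : ∀ r : Kˣ, r ∈ U ↔ Matrix.GeneralLinearGroup.scalar (Fin 3) r ∈ N)
    (hU3 : 3 ∣ Nat.card U → ∀ r : Kˣ, r ^ 3 ∈ U → r ∈ U)
    (hP : P = (N ⊓ specialLinear (Fin 3) K).map (inclGL K))
    (hrep : ∀ g ∈ G, ∃ k ∈ N, ∃ c : F, c ≠ 0 ∧ (g : M3) = c • (inclGL K k : M3)) :
    Nonempty (PX G ≃* PX P) ∨
      (3 ∣ Nat.card U ∧ (∃ L : Subgroup (PX G), L.index = 3 ∧ Nonempty (↥L ≃* PX P)) ∧
        ∃ c : F, c ∉ K ∧ c ^ 3 ∈ K) := by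
  classical
  let S : Subgroup U := (powMonoidHom 3 : U →* U).range
  have hrep' : ∀ g : G, ∃ k : N, ∃ c : F, c ≠ 0 ∧
      ((g : GL (Fin 3) F) : M3) = c • (inclGL K k : M3) := fun g => by
    obtain ⟨k, hk, c, hc, e⟩ := hrep g g.2
    exact ⟨⟨k, hk⟩, c, hc, e⟩
  choose kk cc hcc hgk using hrep'
  let dd : N → U := fun k => ⟨Matrix.GeneralLinearGroup.det (k : GL (Fin 3) K), hdet k k.2⟩
  -- two representations differ by an element of `U`
  have hwd : ∀ (g : G) (k : N) (c : F), c ≠ 0 → ((g : GL (Fin 3) F) : M3) = c • (inclGL K k : M3) →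
      QuotientGroup.mk' S (dd (kk g)) = QuotientGroup.mk' S (dd k) := by
    intro g k c hc e
    rw [hgk g] at e
    obtain ⟨i, j, hij⟩ : ∃ i j, (inclGL K (k : GL (Fin 3) K) : M3) i j ≠ 0 := by
      by_contra hz
      push Not at hz
      have := Matrix.GeneralLinearGroup.det_ne_zero (inclGL K (k : GL (Fin 3) K))
      rw [show (inclGL K (k : GL (Fin 3) K) : M3) = 0 from Matrix.ext hz] at this
      simp at this
    have hrK : (cc g)⁻¹ * c ∈ K := by
      have he := congrFun (congrFun e i) j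
      simp only [Matrix.smul_apply, smul_eq_mul] at he
      have : (cc g)⁻¹ * c = (inclGL K (kk g : GL (Fin 3) K) : M3) i j * ((inclGL K (k : GL (Fin 3) K) : M3) i j)⁻¹ := by
        have := hcc g
        field_simp
        linear_combination -he
      rw [this]
      exact K.mul_mem ((kk g : GL (Fin 3) K).1 i j).2 (K.inv_mem ((k : GL (Fin 3) K).1 i j).2)
    let r : Kˣ := Units.mk0 ⟨_, hrK⟩ fun h0 => mul_ne_zero (inv_ne_zero (hcc g)) hc (congrArg Subtype.val h0)
    have hkr : (kk g : GL (Fin 3) K) = Matrix.GeneralLinearGroup.scalar (Fin 3) r * k := by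
      refine Units.ext (incM_inj ?_)
      rw [incM_incl]
      have : (inclGL K (kk g : GL (Fin 3) K) : M3) = ((cc g)⁻¹ * c) • (inclGL K (k : GL (Fin 3) K) : M3) := by
        rw [mul_smul, ← e, smul_smul, inv_mul_cancel₀ (hcc g), one_smul]
      rw [this, Units.val_mul, map_mul, incM_incl (k : GL (Fin 3) K)]
      have h1 : incM K ((Matrix.GeneralLinearGroup.scalar (Fin 3) r : GL (Fin 3) K) : MK) =
          ((cc g)⁻¹ * c) • (1 : M3) := by
        ext a b
        by_cases hab : a = b <;> simp [RingHom.mapMatrix_apply, Matrix.scalar_apply, hab, r]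
      rw [h1, smul_mul_assoc, one_mul]
    have hrU : r ∈ U := (hU r).mpr (by
      have := N.mul_mem (kk g).2 (N.inv_mem k.2)
      rwa [hkr, mul_inv_cancel_right] at this)
    refine (QuotientGroup.mk'_eq_mk' S).mpr ⟨(⟨r, hrU⟩ : U)⁻¹ ^ 3, ⟨_, rfl⟩, Subtype.ext ?_⟩
    show Matrix.GeneralLinearGroup.det (kk g : GL (Fin 3) K) * r⁻¹ ^ 3 =
      Matrix.GeneralLinearGroup.det (k : GL (Fin 3) K)
    have hds : Matrix.GeneralLinearGroup.det (Matrix.GeneralLinearGroup.scalar (Fin 3) r) = r ^ 3 :=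
      Units.ext (by simp [Matrix.scalar_apply, Matrix.det_diagonal])
    rw [hkr, map_mul, hds, mul_comm (r ^ 3), mul_assoc, inv_pow, mul_inv_cancel, mul_one]
  let χ : G →* U ⧸ S :=
    { toFun := fun g => QuotientGroup.mk' S (dd (kk g))
      map_one' := by
        rw [hwd 1 1 1 one_ne_zero (by simp), show dd 1 = 1 from Subtype.ext (map_one _), map_one]
      map_mul' := fun a b => by
        rw [hwd (a * b) (kk a * kk b) (cc a * cc b) (mul_ne_zero (hcc a) (hcc b)) (by
          rw [Subgroup.coe_mul, Units.val_mul, hgk a, hgk b, smul_mul_smul_comm, Subgroup.coe_mul, map_mul,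
            Units.val_mul]), ← map_mul]
        congr 1
        exact Subtype.ext (map_mul _ _ _) }
  have hχ : ∀ g : G, InP P g ↔ χ g = 1 := by
    intro g
    constructor
    · rintro ⟨x, hx, c, hc⟩
      rw [hP] at hx
      obtain ⟨s, ⟨hsN, hsS⟩, rfl⟩ := hx
      have hc0 : c ≠ 0 := fun h0 => Matrix.GeneralLinearGroup.det_ne_zero (g : GL (Fin 3) F) (by
        rw [hc, h0]; simp)
      show QuotientGroup.mk' S (dd (kk g)) = 1
      rw [hwd g ⟨s, hsN⟩ c hc0 hc, show dd ⟨s, hsN⟩ = 1 from Subtype.ext (MonoidHom.mem_ker.mp hsS), map_one]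
    · intro h
      obtain ⟨u, hu⟩ := (QuotientGroup.eq_one_iff _).mp h
      have hd : Matrix.GeneralLinearGroup.det (kk g : GL (Fin 3) K) = (u : Kˣ) ^ 3 :=
        (congrArg Subtype.val hu).symm
      set s := Matrix.GeneralLinearGroup.scalar (Fin 3) ((u : Kˣ)⁻¹) * (kk g : GL (Fin 3) K) with hs
      have hsN : s ∈ N ⊓ specialLinear (Fin 3) K := by
        refine ⟨N.mul_mem ((hU _).mp (U.inv_mem u.2)) (kk g).2, ?_⟩
        show Matrix.GeneralLinearGroup.det s = 1
        rw [hs, map_mul, hd]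
        refine Units.ext ?_
        simp [Matrix.scalar_apply, Matrix.det_diagonal]
      refine ⟨inclGL K s, hP ▸ ⟨s, hsN, rfl⟩, cc g * ((u : Kˣ) : K), ?_⟩
      rw [hgk g, ← incM_incl s, hs, Units.val_mul, map_mul, incM_incl (kk g : GL (Fin 3) K)]
      have h1 := incM_scalar (K := K) ((u : Kˣ)⁻¹)
      rw [h1, smul_mul_assoc, one_mul, smul_smul]
      congr 1
      rw [mul_assoc, ← Subfield.coe_mul, ← Units.val_mul, mul_inv_cancel]
      simp
  by_cases hall : ∀ g : G, χ g = 1
  · exact Or.inl (iso_of_all hle fun g hg => (hχ ⟨g, hg⟩).mpr (hall ⟨g, hg⟩))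
  push Not at hall
  obtain ⟨g, hg⟩ := hall
  have hidx : Nat.card (U ⧸ S) = Nat.gcd (Nat.card U) 3 := IsCyclic.index_powMonoidHom_range (G := U) (d := 3)
  have hdv : Nat.card χ.range ∣ 3 := (hidx ▸ Subgroup.card_subgroup_dvd_card _).trans (Nat.gcd_dvd_right _ _)
  have hc3 : Nat.card χ.range = 3 := ((Nat.dvd_prime Nat.prime_three).mp hdv).resolve_left fun h1 =>
    hg (by
      have := Subgroup.card_eq_one.mp h1
      exact Subgroup.mem_bot.mp (this ▸ (⟨g, rfl⟩ : χ g ∈ χ.range)))
  have h3U : 3 ∣ Nat.card U := by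
    have := hidx ▸ Subgroup.card_subgroup_dvd_card χ.range
    rw [hc3] at this
    exact this.trans (Nat.gcd_dvd_left _ _)
  obtain ⟨L, hL, hLe⟩ := exists_sub_of_hom hle χ hχ
  refine Or.inr ⟨h3U, ⟨L, hL.trans hc3, hLe⟩, cc g, ?_⟩
  have hdF : cc g ^ 3 * ((((kk g : GL (Fin 3) K) : MK).det : K) : F) = 1 := by
    have := det_of_mem_sl (hG g.2)
    rwa [hgk g, Matrix.det_smul, Fintype.card_fin, ← incM_incl, incM_det] at this
  constructor
  · intro hcK
    let r : Kˣ := Units.mk0 ⟨cc g, hcK⟩ fun h0 => hcc g (congrArg Subtype.val h0)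
    have hr3 : r ^ 3 * Matrix.GeneralLinearGroup.det (kk g : GL (Fin 3) K) = 1 :=
      Units.ext (Subtype.ext (by simpa [r] using hdF))
    have hd : Matrix.GeneralLinearGroup.det (kk g : GL (Fin 3) K) = (r⁻¹) ^ 3 := by
      rw [inv_pow]; exact eq_inv_of_mul_eq_one_right hr3
    have hrU : r⁻¹ ∈ U := hU3 h3U _ (hd ▸ hdet _ (kk g).2)
    refine hg ((QuotientGroup.eq_one_iff _).mpr ⟨⟨r⁻¹, hrU⟩, Subtype.ext ?_⟩)
    exact hd.symm
  · have h0 : ((((kk g : GL (Fin 3) K) : MK).det : K) : F) ≠ 0 := fun h0 => by simp [h0] at hdF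
    rw [eq_inv_of_mul_eq_one_left hdF]
    exact K.inv_mem ((kk g : GL (Fin 3) K) : MK).det.2

/-- An element outside `K` with cube in `K` makes the degree divisible by three. -/
theorem three_dvd_degree {c : F} (hc : c ∉ K) (hc3 : c ^ 3 ∈ K) [Fintype K]
    (hq : Fintype.card K % 3 = 1) {m : ℕ} (hm : Fintype.card F = Fintype.card K ^ m) : 3 ∣ m := by
  classical
  set q := Fintype.card K with hqdef
  have hfix : ∀ x : F, x ^ q = x → x ∈ K := by
    intro x hx
    have hne : (Polynomial.X ^ q - Polynomial.X : Polynomial F) ≠ 0 :=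
      FiniteField.X_pow_card_sub_X_ne_zero F Fintype.one_lt_card
    let T := (Polynomial.X ^ q - Polynomial.X : Polynomial F).roots.toFinset
    have hmem : ∀ y : F, y ^ q = y → y ∈ T := fun y hy => by
      rw [Multiset.mem_toFinset, Polynomial.mem_roots hne]
      simp [Polynomial.IsRoot, hy]
    have hsub : (Finset.univ : Finset K).image (Subtype.val) ⊆ T := fun y hy => by
      obtain ⟨z, -, rfl⟩ := Finset.mem_image.mp hy
      exact hmem _ (by rw [← SubmonoidClass.coe_pow]; exact congrArg Subtype.val (FiniteField.pow_card z))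
    have heq := Finset.eq_of_subset_of_card_le hsub (by
      rw [Finset.card_image_of_injective _ Subtype.val_injective, Finset.card_univ]
      exact (Multiset.toFinset_card_le _).trans ((Polynomial.card_roots' _).trans
        (FiniteField.X_pow_card_sub_X_natDegree_eq F Fintype.one_lt_card).le))
    obtain ⟨z, -, rfl⟩ := Finset.mem_image.mp (heq ▸ hmem x hx)
    exact z.2
  have hc0 : c ≠ 0 := fun h => hc (h ▸ K.zero_mem)
  set w := c ^ q / c with hw
  have hcw : c ^ q = c * w := by rw [hw]; field_simp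
  have hw3 : w ^ 3 = 1 := by
    have h : (c ^ 3) ^ q = c ^ 3 := congrArg Subtype.val (FiniteField.pow_card (⟨c ^ 3, hc3⟩ : K))
    rw [hw, div_pow, ← pow_mul, mul_comm, pow_mul, h, div_self (pow_ne_zero 3 hc0)]
  have hw1 : w ≠ 1 := fun h => hc (hfix c (by rw [hcw, h, mul_one]))
  have hwq : w ^ q = w := by rw [pow_eq_pow_mod q hw3, hq, pow_one]
  have hpow : ∀ n, c ^ q ^ n = c * w ^ n := by
    intro n
    induction n with
    | zero => simp
    | succ n ih => rw [pow_succ, pow_mul, ih, mul_pow, hcw, ← pow_mul, mul_comm n, pow_mul, hwq, mul_assoc, pow_succ']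
  have := hpow m
  rw [← hm, FiniteField.pow_card] at this
  have hwm : w ^ m = 1 := (mul_eq_left₀ hc0).mp this.symm
  haveI : Fact (Nat.Prime 3) := ⟨Nat.prime_three⟩
  rw [← orderOf_eq_prime hw3 hw1]
  exact orderOf_dvd_of_pow_eq_one hwm

/-- A surjection on `P` with central preimage of the scalars. -/
theorem iso_quotient_center {A : Type*} [Group A] (θ : A →* P) (hs : Function.Surjective θ)
    (hker : ∀ a, (θ a : GL (Fin 3) F) ∈ scalars (Fin 3) F ↔ a ∈ Subgroup.center A) :
    Nonempty (PX P ≃* A ⧸ Subgroup.center A) := by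
  refine ⟨((QuotientGroup.quotientMulEquivOfEq ?_).trans
    (QuotientGroup.quotientKerEquivOfSurjective ((px P).comp θ) (px_surjective.comp hs))).symm⟩
  ext a
  rw [MonoidHom.mem_ker, ← hker]
  exact ((QuotientGroup.eq_one_iff (θ a)).trans Subgroup.mem_subgroupOf).symm

/-- The field of the statement. -/
theorem exists_model (p : ℕ) [Fact p.Prime] [CharP F p] {α : ℕ} (hF : Fintype.card F = p ^ α) (K : Subfield F) :
    ∃ (n m : ℕ) (K' : Type) (_ : Field K') (_ : Fintype K'), n ≠ 0 ∧ Fintype.card K' = p ^ n ∧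
      Nat.card K = p ^ n ∧ α = n * m ∧ Fintype.card F = Nat.card K ^ m ∧ Nonempty (K' ≃+* K) := by
  haveI : Fintype K := Fintype.ofFinite K
  obtain ⟨n, -, hn⟩ := FiniteField.card K p
  letI : Fintype (GaloisField p n) := Fintype.ofFinite _
  have hc : Fintype.card (GaloisField p n) = p ^ (n : ℕ) := by
    rw [← Nat.card_eq_fintype_card, GaloisField.card p _ n.pos.ne']
  have hm := Module.card_eq_pow_finrank (K := K) (V := F)
  refine ⟨n, Module.finrank K F, GaloisField p n, inferInstance, inferInstance, n.pos.ne', hc,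
    by rw [Nat.card_eq_fintype_card, hn], ?_, by rw [Nat.card_eq_fintype_card]; exact hm,
    ⟨FiniteField.ringEquivOfCardEq (by rw [hc, hn])⟩⟩
  rw [hn, ← pow_mul, hF] at hm
  exact Nat.pow_right_injective (Fact.out : p.Prime).two_le hm

theorem slCongr_val {K' : Type} [Field K'] (e : K' ≃+* K) (a : Matrix.SpecialLinearGroup (Fin 3) K') :
    ((H27.PermFamily.slCongr e a : Matrix.SpecialLinearGroup (Fin 3) K) : MK) =
      ((a : Matrix (Fin 3) (Fin 3) K').map e) := rfl

theorem incl_scalar_iff (x : GL (Fin 3) K) :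
    inclGL K x ∈ scalars (Fin 3) F ↔ ∃ r : K, (x : MK) = r • 1 := by
  rw [mem_scalars_iff]
  constructor
  · rintro ⟨u, hu⟩
    refine ⟨(x : MK) 0 0, incM_inj ?_⟩
    have h00 : (((x : MK) 0 0 : K) : F) = u := by
      have := congrFun (congrFun hu 0) 0
      simpa [inclGL_apply] using this
    rw [incM_incl, incM_smul, map_one, hu, h00]
  · rintro ⟨r, hr⟩
    refine ⟨Units.mk0 (r : F) fun h0 => Matrix.GeneralLinearGroup.det_ne_zero x ?_, ?_⟩
    · show (x : MK).det = 0
      simp [hr, show r = 0 from Subtype.ext h0]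
    · rw [← incM_incl, show incM K (x : MK) = incM K (r • 1) from congrArg _ hr, incM_smul, map_one]; rfl

theorem iso_psl (hP : P = (specialLinear (Fin 3) K).map (inclGL K)) {K' : Type} [Field K'] (e : K' ≃+* K) :
    Nonempty (PX P ≃* Matrix.ProjectiveSpecialLinearGroup (Fin 3) K') := by
  let f : Matrix.SpecialLinearGroup (Fin 3) K' →* GL (Fin 3) F :=
    ((inclGL K).comp Matrix.SpecialLinearGroup.toGL).comp (H27.PermFamily.slCongr e).toMonoidHom
  have hf : ∀ a, f a ∈ P := fun a => by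
    rw [hP, show specialLinear (Fin 3) K = (Matrix.SpecialLinearGroup.toGL (n := Fin 3) (R := K)).range from
      (Cfsg.Agent.Linear.range_toGL).symm]
    exact ⟨_, ⟨_, rfl⟩, rfl⟩
  refine iso_quotient_center (f.codRestrict P hf) (fun x => ?_) (fun a => ?_)
  · obtain ⟨y, hy, e'⟩ := hP.le x.2
    rw [SetLike.mem_coe, show specialLinear (Fin 3) K = (Matrix.SpecialLinearGroup.toGL (n := Fin 3) (R := K)).range from
      (Cfsg.Agent.Linear.range_toGL).symm] at hy
    obtain ⟨s, rfl⟩ := hy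
    exact ⟨(H27.PermFamily.slCongr e).symm s, Subtype.ext (by simp [f, e'])⟩
  · show inclGL K _ ∈ _ ↔ _
    rw [incl_scalar_iff]
    constructor
    · rintro ⟨r, hr⟩
      rw [← (H27.PermFamily.slCongr e).symm_apply_apply a]
      refine Subgroup.mem_center_iff.mpr fun b => (H27.PermFamily.slCongr e).injective ?_
      rw [map_mul, map_mul, MulEquiv.apply_symm_apply]
      refine Subtype.ext ?_
      have hr' : ((H27.PermFamily.slCongr e a : Matrix.SpecialLinearGroup (Fin 3) K) : MK) = r • 1 := hr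
      simp only [Matrix.SpecialLinearGroup.coe_mul, hr', smul_mul_assoc, one_mul, mul_smul_comm, mul_one]
    · intro h
      obtain ⟨r, -, hr⟩ := Matrix.SpecialLinearGroup.mem_center_iff.mp h
      refine ⟨e r, ?_⟩
      show ((H27.PermFamily.slCongr e a : Matrix.SpecialLinearGroup (Fin 3) K) : MK) = _
      rw [slCongr_val, ← hr]
      ext i j
      by_cases h : i = j <;> simp [Matrix.scalar_apply, h]

/-- The linear case, in standard position. -/
theorem sl_case (p : ℕ) [Fact p.Prime] [CharP F p] {α : ℕ} (hF : Fintype.card F = p ^ α)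
    (hG : G ≤ specialLinear (Fin 3) F) (hle : P ≤ G) (hi : Invt G P) (hS : Setting P)
    (hP : P = (specialLinear (Fin 3) K).map (inclGL K)) : List5711 p α (PX G) := by
  haveI : Fintype K := Fintype.ofFinite K
  obtain ⟨n, m, K', iK, iK', hn0, hK', hK, hα, hFm, ⟨e⟩⟩ := exists_model p hF K
  obtain ⟨eP⟩ := iso_psl hP e
  rcases index_split hG hle (⊤ : Subgroup (GL (Fin 3) K)) (⊤ : Subgroup Kˣ) (fun _ _ => Subgroup.mem_top _)
    (fun r => by simp) (fun _ _ _ => Subgroup.mem_top _) (by rw [top_inf_eq]; exact hP) (fun g hg => by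
      obtain ⟨c, k, hc, hk⟩ := exists_smul_rational hS hP (hi g hg)
      exact ⟨k, Subgroup.mem_top _, c, hc, hk⟩) with ⟨⟨eG⟩⟩ | ⟨h3, ⟨L, hL, ⟨eL⟩⟩, c, hc, hc3⟩
  · exact Or.inl ⟨K', iK, iK', n, hK', Dvd.intro m hα.symm, ⟨eG.trans eP⟩⟩
  · have h3' : 3 ∣ p ^ n - 1 := by
      rwa [Subgroup.card_top, Nat.card_units, hK] at h3
    have hpos : 0 < p ^ n := pow_pos (Fact.out : p.Prime).pos n
    have hm3 := three_dvd_degree hc hc3 (by rw [← Nat.card_eq_fintype_card, hK]; omega)
      (by rw [← Nat.card_eq_fintype_card (α := K)]; exact hFm)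
    refine Or.inr (Or.inr (Or.inl ⟨K', iK, iK', n, hK', h3', ?_, L, hL, ⟨eL.trans eP⟩⟩))
    rw [hα, mul_comm 3]
    exact Nat.mul_dvd_mul_left n hm3

theorem mem_SU_iff {K' : Type*} [Field K'] {q : ℕ} (a : Matrix.SpecialLinearGroup (Fin 3) K') :
    a ∈ SU 3 K' q ↔ Matrix.SpecialLinearGroup.toGL a ∈ GU 3 K' q := Iff.rfl

theorem slCongr_mem_GU {K' : Type} [Field K'] (e : K' ≃+* K) {q : ℕ} (a : Matrix.SpecialLinearGroup (Fin 3) K') :
    Matrix.SpecialLinearGroup.toGL (H27.PermFamily.slCongr e a) ∈ GU 3 K q ↔ a ∈ SU 3 K' q := by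
  have hh : ∀ u v : Fin 3 → K', hermForm 3 K q (e ∘ u) (e ∘ v) = e (hermForm 3 K' q u v) := fun u v => by
    simp [hermForm, map_sum]
  have hmv : ∀ u : Fin 3 → K', ((a : Matrix (Fin 3) (Fin 3) K').map e) *ᵥ (e ∘ u) =
      e ∘ ((a : Matrix (Fin 3) (Fin 3) K') *ᵥ u) := fun u =>
    funext fun i => ((e : K' →+* K).map_mulVec _ u i).symm
  rw [mem_SU_iff, Unitary.mem_GU_iff, Unitary.mem_GU_iff]
  constructor
  · intro h u v
    have := h (e ∘ u) (e ∘ v)
    rw [show ((Matrix.SpecialLinearGroup.toGL (H27.PermFamily.slCongr e a) : GL (Fin 3) K) : MK) =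
      (a : Matrix (Fin 3) (Fin 3) K').map e from rfl, hmv, hmv, hh, hh] at this
    exact e.injective this
  · intro h u v
    obtain ⟨u, rfl⟩ : ∃ u' : Fin 3 → K', e ∘ u' = u := ⟨e.symm ∘ u, funext fun i => e.apply_symm_apply _⟩
    obtain ⟨v, rfl⟩ : ∃ v' : Fin 3 → K', e ∘ v' = v := ⟨e.symm ∘ v, funext fun i => e.apply_symm_apply _⟩
    show hermForm 3 K q (((a : Matrix (Fin 3) (Fin 3) K').map e) *ᵥ _) (((a : Matrix (Fin 3) (Fin 3) K').map e) *ᵥ _) = _
    rw [hmv, hmv, hh, hh]
    exact congrArg e (h u v)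

theorem iso_psu {q : ℕ} (hP : P = (GU 3 K q ⊓ specialLinear (Fin 3) K).map (inclGL K))
    {K' : Type} [Field K'] [Fintype K'] (e : K' ≃+* K) (hK' : Fintype.card K' = q ^ 2) :
    Nonempty (PX P ≃* PSU 3 K' q) := by
  let f : SU 3 K' q →* GL (Fin 3) F :=
    (((inclGL K).comp Matrix.SpecialLinearGroup.toGL).comp (H27.PermFamily.slCongr e).toMonoidHom).comp
      (SU 3 K' q).subtype
  have hsl : specialLinear (Fin 3) K = (Matrix.SpecialLinearGroup.toGL (n := Fin 3) (R := K)).range :=
    (Cfsg.Agent.Linear.range_toGL).symm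
  have hf : ∀ a, f a ∈ P := fun a => by
    rw [hP]
    exact ⟨_, ⟨(slCongr_mem_GU e _).mpr a.2, hsl ▸ ⟨_, rfl⟩⟩, rfl⟩
  refine iso_quotient_center (f.codRestrict P hf) (fun x => ?_) (fun a => ?_)
  · obtain ⟨y, ⟨hyU, hyS⟩, e'⟩ := hP.le x.2
    rw [hsl] at hyS
    obtain ⟨s, rfl⟩ := hyS
    refine ⟨⟨(H27.PermFamily.slCongr e).symm s, (slCongr_mem_GU e _).mp (by simpa using hyU)⟩,
      Subtype.ext (by simp [f, e'])⟩
  · show inclGL K _ ∈ _ ↔ _
    rw [incl_scalar_iff]
    constructor
    · rintro ⟨r, hr⟩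
      refine Subgroup.mem_center_iff.mpr fun b => Subtype.ext ((H27.PermFamily.slCongr e).injective ?_)
      rw [Subgroup.coe_mul, Subgroup.coe_mul, map_mul, map_mul]
      refine Subtype.ext ?_
      have hr' : ((H27.PermFamily.slCongr e (a : Matrix.SpecialLinearGroup (Fin 3) K') :
          Matrix.SpecialLinearGroup (Fin 3) K) : MK) = r • 1 := hr
      simp only [Matrix.SpecialLinearGroup.coe_mul, hr', smul_mul_assoc, one_mul, mul_smul_comm, mul_one]
    · intro h
      obtain ⟨l, hl⟩ := Unitary.eq_smul_of_mem_center hK' (by norm_num) h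
      refine ⟨e l, ?_⟩
      show ((H27.PermFamily.slCongr e (a : Matrix.SpecialLinearGroup (Fin 3) K') :
        Matrix.SpecialLinearGroup (Fin 3) K) : MK) = _
      rw [slCongr_val, show ((a : Matrix.SpecialLinearGroup (Fin 3) K') : Matrix (Fin 3) (Fin 3) K') = l • 1
        from Unitary.mat_of_ap_smul hl]
      ext i j
      by_cases h : i = j <;> simp [h]

/-- The unitary case, in standard position. -/
theorem su_case (p : ℕ) [Fact p.Prime] [CharP F p] {α : ℕ} (hF : Fintype.card F = p ^ α) {q : ℕ}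
    (hKq : Nat.card K = q ^ 2) (hG : G ≤ specialLinear (Fin 3) F) (hle : P ≤ G) (hi : Invt G P)
    (hS : Setting P) (hP : P = (GU 3 K q ⊓ specialLinear (Fin 3) K).map (inclGL K)) :
    List5711 p α (PX G) := by
  classical
  haveI : Fintype K := Fintype.ofFinite K
  obtain ⟨n, m, K', iK, iK', hn0, hK', hK, hα, hFm, ⟨e⟩⟩ := exists_model p hF K
  obtain ⟨β, rfl⟩ : ∃ β, q = p ^ β := by
    have : q ∣ p ^ n := ⟨q, by rw [← hK, hKq, sq]⟩
    obtain ⟨β, -, h⟩ := (Nat.dvd_prime_pow (Fact.out : p.Prime)).mp this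
    exact ⟨β, h⟩
  obtain rfl : n = 2 * β := Nat.pow_right_injective (Fact.out : p.Prime).two_le
    (show p ^ n = p ^ (2 * β) by rw [← hK, hKq, ← pow_mul, mul_comm])
  set q := p ^ β
  have hKc : Fintype.card K = q ^ 2 := by rw [← Nat.card_eq_fintype_card]; exact hKq
  have hK'q : Fintype.card K' = q ^ 2 := by rw [hK', ← pow_mul, mul_comm]
  obtain ⟨eP⟩ := iso_psu hP e hK'q
  let U : Subgroup Kˣ := (powMonoidHom (q + 1) : Kˣ →* Kˣ).ker
  have hUc : Nat.card U = q + 1 := Unitary.card_ker_pow hKc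
  have hhst : ∀ x ∈ GU 3 K q, Unitary.Asch.hst q (x : MK) * (x : MK) = 1 := fun x hx =>
    (Unitary.Asch.mem_GU_iff_hst hKc).mp hx
  have hdet : ∀ k ∈ GU 3 K q, Matrix.GeneralLinearGroup.det k ∈ U := fun k hk => by
    have := congrArg Matrix.det (hhst k hk)
    rw [Matrix.det_mul, Matrix.det_one, Unitary.Asch.hst_eq hKc, Matrix.det_transpose, ← RingHom.map_det] at this
    rw [MonoidHom.mem_ker, powMonoidHom_apply]
    refine Units.ext ?_
    rw [Units.val_pow_eq_pow_val, Units.val_one, pow_succ]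
    simpa [Unitary.frob_apply] using this
  have hUs : ∀ r : Kˣ, r ∈ U ↔ Matrix.GeneralLinearGroup.scalar (Fin 3) r ∈ GU 3 K q := fun r => by
    have hv : ((Matrix.GeneralLinearGroup.scalar (Fin 3) r : GL (Fin 3) K) : MK) = (r : K) • 1 := by
      simp [Matrix.scalar_apply, Matrix.smul_one_eq_diagonal]
    rw [Unitary.Asch.mem_GU_iff_hst hKc, hv, Unitary.Asch.hst_smul_one hKc, smul_mul_smul_comm, one_mul,
      ← pow_succ, MonoidHom.mem_ker, powMonoidHom_apply]
    constructor
    · intro h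
      rw [← Units.val_pow_eq_pow_val, h, Units.val_one, one_smul]
    · intro h
      refine Units.ext ?_
      simpa using congrFun (congrFun h 0) 0
  have hU3 : 3 ∣ Nat.card U → ∀ r : Kˣ, r ^ 3 ∈ U → r ∈ U := fun h3 r hr => by
    rw [hUc] at h3
    rw [MonoidHom.mem_ker, powMonoidHom_apply] at hr ⊢
    set w := r ^ (q + 1) with hw
    have hw3 : w ^ 3 = 1 := by rw [hw, ← pow_mul, mul_comm, pow_mul]; exact hr
    have hwq : w ^ (q - 1) = 1 := by
      rw [hw, ← pow_mul, ← Unitary.card_units hKc]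
      exact pow_card_eq_one'
    have := Unitary.two_le_q hKc
    rw [pow_eq_pow_mod (q - 1) hw3, show (q - 1) % 3 = 1 by omega, pow_one] at hwq
    exact hwq
  rcases index_split hG hle (GU 3 K q) U hdet hUs hU3 hP (fun g hg => by
      obtain ⟨c, k, hc, hk⟩ := exists_smul_rational hS hP (hi g hg)
      -- `k` is a similitude
      set M : MK := Unitary.Asch.hst q (k : MK) * (k : MK) with hMdef
      have hcommute : ∀ x ∈ GU 3 K q ⊓ specialLinear (Fin 3) K, M * (x : MK) = (x : MK) * M := by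
        intro x hx
        have hmem := hi g hg _ (hP ▸ ⟨x, hx, rfl⟩ : inclGL K x ∈ P)
        rw [hP] at hmem
        obtain ⟨y, hy, he⟩ := hmem
        have hyk : y * k = k * x := by
          refine inclGL_injective K (Units.ext ?_)
          have h1 : inclGL K y * g = g * inclGL K x := by rw [he, inv_mul_cancel_right]
          have h2 := congrArg Units.val h1
          rw [Units.val_mul, Units.val_mul, hk, mul_smul_comm, smul_mul_assoc] at h2
          rw [map_mul, map_mul, Units.val_mul, Units.val_mul]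
          exact smul_right_injective M3 hc h2
        have h3 : (y : MK) * (k : MK) = (k : MK) * (x : MK) := congrArg Units.val hyk
        have hxinv : (x : MK) * Unitary.Asch.hst q (x : MK) = 1 :=
          mul_eq_one_comm.mp (hhst x hx.1)
        have h4 : Unitary.Asch.hst q (x : MK) * M * (x : MK) = M := by
          rw [hMdef, ← mul_assoc, ← Unitary.Asch.hst_mul hKc, mul_assoc, ← h3, Unitary.Asch.hst_mul hKc,
            mul_assoc, ← mul_assoc (Unitary.Asch.hst q (y : MK)), hhst y hy.1, one_mul]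
        calc M * (x : MK) = (x : MK) * Unitary.Asch.hst q (x : MK) * (M * (x : MK)) := by rw [hxinv, one_mul]
          _ = (x : MK) * M := by rw [mul_assoc, ← mul_assoc _ M, h4]
      obtain ⟨a, ha⟩ := hS.abs.2 (incM K M) (by
        rintro _ ⟨z, hz, rfl⟩
        rw [hP] at hz
        obtain ⟨x, hx, rfl⟩ := hz
        show incM K M * (inclGL K x : M3) = (inclGL K x : M3) * incM K M
        rw [← incM_incl, ← map_mul, ← map_mul, hcommute x hx])
      have ha' : M = M 0 0 • 1 := incM_inj (by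
        rw [incM_smul, map_one, ha]
        congr 1
        have := congrFun (congrFun ha 0) 0
        simpa [RingHom.mapMatrix_apply] using this.symm)
      have hfix : (M 0 0) ^ q = M 0 0 := by
        have h1 : Unitary.Asch.hst q M = M := by
          rw [hMdef, Unitary.Asch.hst_mul hKc, Unitary.Asch.hst_hst hKc]
        have := congrFun (congrFun h1 0) 0
        rwa [Unitary.Asch.hst_apply] at this
      obtain ⟨μ, hμ⟩ := Unitary.exists_norm_eq hKc hfix
      have hμ0 : μ ≠ 0 := fun h0 => by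
        rw [h0, zero_mul] at hμ
        rw [← hμ, zero_smul] at ha'
        have := congrArg Matrix.det ha'
        rw [hMdef, Matrix.det_mul, Unitary.Asch.hst_eq hKc, Matrix.det_transpose, ← RingHom.map_det,
          Matrix.det_zero] at this
        rcases mul_eq_zero.mp this with h | h
        · exact Matrix.GeneralLinearGroup.det_ne_zero k ((map_eq_zero _).mp h)
        · exact Matrix.GeneralLinearGroup.det_ne_zero k h
      refine ⟨Matrix.GeneralLinearGroup.scalar (Fin 3) (Units.mk0 μ hμ0)⁻¹ * k, ?_, c * (μ : F),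
        mul_ne_zero hc fun h0 => hμ0 (Subtype.ext h0), ?_⟩
      · rw [Unitary.Asch.mem_GU_iff_hst hKc]
        have hv : ((Matrix.GeneralLinearGroup.scalar (Fin 3) (Units.mk0 μ hμ0)⁻¹ : GL (Fin 3) K) : MK) =
            μ⁻¹ • 1 := by
          rw [show (Units.mk0 μ hμ0)⁻¹ = Units.mk0 μ⁻¹ (inv_ne_zero hμ0) from Units.ext (by simp)]
          simp [Matrix.scalar_apply, Matrix.smul_one_eq_diagonal]
        rw [Units.val_mul, hv, smul_mul_assoc, one_mul, Unitary.Asch.hst_smul, smul_mul_smul_comm,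
          ← hMdef, ha', smul_smul, inv_pow, ← mul_inv, mul_comm (μ ^ q), hμ, inv_mul_cancel₀, one_smul]
        rw [← hμ]
        exact mul_ne_zero hμ0 (pow_ne_zero q hμ0)
      · rw [hk, map_mul, Units.val_mul, ← incM_incl k, ← incM_incl (Matrix.GeneralLinearGroup.scalar (Fin 3) (Units.mk0 μ hμ0)⁻¹)]
        have hv : incM K ((Matrix.GeneralLinearGroup.scalar (Fin 3) (Units.mk0 μ hμ0)⁻¹ : GL (Fin 3) K) : MK) =
            ((μ : F)⁻¹) • (1 : M3) := by
          rw [incM_scalar]; simp
        rw [hv, smul_mul_assoc, one_mul, smul_smul, mul_assoc,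
          mul_inv_cancel₀ (fun h0 => hμ0 (Subtype.ext h0)), mul_one]) with
    ⟨⟨eG⟩⟩ | ⟨h3, ⟨L, hL, ⟨eL⟩⟩, c, hc, hc3⟩
  · exact Or.inr (Or.inl ⟨K', iK, iK', β, hK', Dvd.intro m hα.symm, ⟨eG.trans eP⟩⟩)
  · rw [hUc] at h3
    have h31 : q ^ 2 % 3 = 1 := by
      rw [Nat.pow_mod, show q % 3 = 2 by omega]
    have hm3 := three_dvd_degree hc hc3 (by rw [hKc]; exact h31)
      (by rw [← Nat.card_eq_fintype_card (α := K)]; exact hFm)
    refine Or.inr (Or.inr (Or.inr (Or.inl ⟨K', iK, iK', β, hK', h3, ?_, L, hL, ⟨eL.trans eP⟩⟩)))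
    rw [hα, show 6 * β = 2 * β * 3 by ring]
    exact Nat.mul_dvd_mul_left _ hm3

theorem conjP_le {g : GL (Fin 3) F} (hG : G ≤ specialLinear (Fin 3) F) :
    conjP g G ≤ specialLinear (Fin 3) F := by
  haveI : (specialLinear (Fin 3) F).Normal := MonoidHom.normal_ker _
  rintro _ ⟨x, hx, rfl⟩
  exact Subgroup.Normal.conj_mem inferInstance x (hG hx) g

theorem invt_conjP {g : GL (Fin 3) F} (hi : Invt G P) : Invt (conjP g G) (conjP g P) := by
  rintro _ ⟨x, hx, rfl⟩ _ ⟨y, hy, rfl⟩
  refine ⟨_, hi x hx y hy, ?_⟩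
  simp only [MulEquiv.toMonoidHom_eq_coe, MonoidHom.coe_coe, MulAut.conj_apply]
  group

theorem conjP_inv_map {g : GL (Fin 3) F} {Q : Subgroup (GL (Fin 3) F)}
    (h : P = Q.map (MulAut.conj g).toMonoidHom) : conjP g⁻¹ P = Q := by
  subst h
  ext x
  rw [mem_conjP, Subgroup.mem_map_equiv]
  simp [mul_assoc]

/-- The classical outcomes. -/
theorem form_case (p : ℕ) [Fact p.Prime] [CharP F p] {α : ℕ} (hF : Fintype.card F = p ^ α)
    (hG : G ≤ specialLinear (Fin 3) F) (hle : P ≤ G) (hi : Invt G P) (hS : Setting P)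
    (h : IsSLForm P ∨ IsSUForm P) : List5711 p α (PX G) := by
  rcases h with ⟨K, g, hP⟩ | ⟨K, q, g, hq, -, hP⟩
  · exact (sl_case p hF (conjP_le (g := g⁻¹) hG) (Subgroup.map_mono hle) (invt_conjP hi) (hS.conjP g⁻¹)
      (conjP_inv_map hP)).congr (pxConj g⁻¹).symm
  · exact (su_case p hF hq (conjP_le (g := g⁻¹) hG) (Subgroup.map_mono hle) (invt_conjP hi) (hS.conjP g⁻¹)
      (conjP_inv_map hP)).congr (pxConj g⁻¹).symm

end Cfsg.Agent.Linear.Mitchell.Subgroups
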