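import Cfsg.Agent.Linear.Mitchell.Subgroups.PerfectTwo
import Cfsg.Agent.Linear.Dickson.SubfieldMax
import Cfsg.Agent.H2.ChiFour.CoverFive

/-!
The subgroups of `PGL₂` over a field of odd order having a perfect normal simple subgroup.
-/

set_option autoImplicit false
set_option linter.style.haveILetI false

namespace Cfsg.Agent.Linear.Mitchell.Subgroups

open scoped MatrixGroups Matrix
open Cfsg.Agent.Linear Cfsg.Agent.Linear.Dickson

variable {F : Type*} [Field F] [Fintype F]

/-- A homomorphism from a perfect group to `PGL₂` has image in `PSL₂`. -/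
theorem exists_psl_lift {M : Type*} [Group M] [Group.IsPerfect M]
    (f : M →* Matrix.ProjGenLinGroup (Fin 2) F) :
    ∃ f' : M →* Matrix.ProjectiveSpecialLinearGroup (Fin 2) F,
      ∀ x, Matrix.ProjectiveSpecialLinearGroup.toPGL (f' x) = f x := by
  classical
  let T : Matrix.ProjectiveSpecialLinearGroup (Fin 2) F →* Matrix.ProjGenLinGroup (Fin 2) F :=
    Matrix.ProjectiveSpecialLinearGroup.toPGL
  let S := (powMonoidHom 2 : Fˣ →* Fˣ).range
  let d : GL (Fin 2) F →* Fˣ ⧸ S := (QuotientGroup.mk' S).comp Matrix.GeneralLinearGroup.det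
  have hker : Subgroup.center (GL (Fin 2) F) ≤ d.ker := by
    intro z hz
    rw [Matrix.GeneralLinearGroup.center_eq_range_scalar] at hz
    obtain ⟨u, rfl⟩ := hz
    rw [MonoidHom.mem_ker]
    refine (QuotientGroup.eq_one_iff _).mpr ⟨u, Units.ext ?_⟩
    simp [Matrix.scalar_apply, Matrix.det_diagonal, sq]
  let g : Matrix.ProjGenLinGroup (Fin 2) F →* Fˣ ⧸ S := QuotientGroup.lift _ d hker
  have : Group.IsSolvable (Fˣ ⧸ S) := Group.isSolvable_of_comm fun a b => mul_comm a b
  have hmem : ∀ x, f x ∈ T.range := by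
    intro x
    obtain ⟨A, hA⟩ := Matrix.ProjGenLinGroup.mk_surjective (f x)
    have h1 : g (f x) = 1 := H63.PerfectAction.hom_trivial (g.comp f) x
    rw [← hA] at h1
    obtain ⟨u, hu⟩ := (QuotientGroup.eq_one_iff _).mp (h1 : d A = 1)
    have hs : (Matrix.GeneralLinearGroup.det (A * Matrix.GeneralLinearGroup.scalar (Fin 2) u⁻¹) : Fˣ) = 1 := by
      rw [map_mul, ← hu]
      refine Units.ext ?_
      simp [Matrix.scalar_apply, Matrix.det_diagonal]
    have hs' : A * Matrix.GeneralLinearGroup.scalar (Fin 2) u⁻¹ ∈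
        (Matrix.SpecialLinearGroup.toGL (n := Fin 2) (R := F)).range := by
      rw [Cfsg.Agent.Linear.range_toGL]; exact hs
    obtain ⟨s, hs'⟩ := hs'
    refine ⟨QuotientGroup.mk s, ?_⟩
    show Matrix.ProjectiveSpecialLinearGroup.toPGL _ = _
    rw [Matrix.ProjectiveSpecialLinearGroup.toPGL_mk, hs', map_mul, Matrix.ProjGenLinGroup.mk_scalar, mul_one, hA]
  let e := MonoidHom.ofInjective (f := T) Matrix.ProjectiveSpecialLinearGroup.toPGL_injective
  refine ⟨e.symm.toMonoidHom.comp (f.codRestrict T.range hmem), fun x => ?_⟩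
  exact congrArg Subtype.val (e.apply_symm_apply ⟨f x, hmem x⟩)

theorem card_eq_of_psl_card {K L : Type*} [Field K] [Fintype K] [Field L] [Fintype L]
    (hK : Odd (Fintype.card K)) (hL : Odd (Fintype.card L))
    (h : Nat.card (Matrix.ProjectiveSpecialLinearGroup (Fin 2) K) =
      Nat.card (Matrix.ProjectiveSpecialLinearGroup (Fin 2) L)) : Fintype.card K = Fintype.card L := by
  have hg : ∀ n : ℕ, Odd n → Nat.gcd 2 (n - 1) = 2 := fun n ⟨k, hk⟩ => Nat.gcd_eq_left (by omega)
  have h1 := card_PSL_two_mul (F := K)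
  have h2 := card_PSL_two_mul (F := L)
  rw [hg _ hK] at h1
  rw [hg _ hL, ← h, h1] at h2
  have hmono : ∀ a b : ℕ, 2 ≤ a → a < b → a * (a ^ 2 - 1) < b * (b ^ 2 - 1) := fun a b ha hab =>
    Nat.mul_lt_mul_of_lt_of_le hab (Nat.sub_le_sub_right (Nat.pow_le_pow_left hab.le 2) 1) (by
      have : 4 ≤ b ^ 2 := le_trans (by norm_num) (Nat.pow_le_pow_left (show 2 ≤ b by omega) 2)
      omega)
  have hK2 : 2 ≤ Fintype.card K := Fintype.one_lt_card
  have hL2 : 2 ≤ Fintype.card L := Fintype.one_lt_card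
  rcases lt_trichotomy (Fintype.card K) (Fintype.card L) with hlt | he | hlt
  · exact absurd h2 (hmono _ _ hK2 hlt).ne
  · exact he
  · exact absurd h2 (hmono _ _ hL2 hlt).ne'

/-- The shapes of a group inside `PGL₂(F)` with a perfect simple normal subgroup. -/
theorem projective_shapes (p α : ℕ) [Fact p.Prime] [CharP F p] (hp : p ≠ 2) (hF : Fintype.card F = p ^ α)
    {X Y : Type*} [Group X] [Finite X] [Group Y] [IsSimpleGroup Y] [Group.IsPerfect Y]
    (f : X →* Matrix.ProjGenLinGroup (Fin 2) F) (hf : Function.Injective f) (ι : Y →* X)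
    (hι : Function.Injective ι) (hn : ι.range.Normal) :
    (∃ (K : Type) (_ : Field K) (_ : Fintype K) (β : ℕ), Fintype.card K = p ^ β ∧ β ∣ α ∧ p ^ β ≠ 3 ∧
      (Nonempty (X ≃* Matrix.ProjectiveSpecialLinearGroup (Fin 2) K) ∨
        Nonempty (X ≃* Matrix.ProjGenLinGroup (Fin 2) K))) ∨
    ((p ^ α % 10 = 1 ∨ p ^ α % 10 = 9) ∧ ∃ (K : Type) (_ : Field K) (_ : Fintype K), Fintype.card K = 5 ∧
      Nonempty (X ≃* Matrix.ProjectiveSpecialLinearGroup (Fin 2) K)) := by
  classical
  have hodd : ∀ n : ℕ, Odd (p ^ n) := fun n => ((Fact.out : p.Prime).odd_of_ne_two hp).pow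
  -- `Y` in `PSL₂(F)`
  obtain ⟨g, hg⟩ := exists_psl_lift (f.comp ι)
  have hgi : Function.Injective g := fun a b h => hι (hf (by
    have := congrArg Matrix.ProjectiveSpecialLinearGroup.toPGL h
    rwa [hg, hg] at this))
  let eY : Y ≃* g.range := MonoidHom.ofInjective hgi
  haveI : Group.IsPerfect g.range := Group.IsPerfect.range g
  haveI : Nontrivial g.range := eY.symm.toEquiv.nontrivial
  have hY := psl_two_of_perfect p α hp hF g.range
  haveI : Nontrivial X := hι.nontrivial
  -- a simple `X` is `Y`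
  have htop : IsSimpleGroup X → Nonempty (X ≃* g.range) := fun h => by
    rcases hn.eq_bot_or_eq_top with e | e
    · obtain ⟨y, hy⟩ := exists_ne (1 : Y)
      exact absurd (hι ((Subgroup.mem_bot.mp (e ▸ (⟨y, rfl⟩ : ι y ∈ ι.range))).trans (map_one ι).symm)) hy
    · exact ⟨(((MonoidHom.ofInjective hι).trans ((MulEquiv.subgroupCongr e).trans Subgroup.topEquiv))).symm.trans eY⟩
  have hsame : IsSimpleGroup X → _ := fun h => show
    (∃ (K : Type) (_ : Field K) (_ : Fintype K) (β : ℕ), Fintype.card K = p ^ β ∧ β ∣ α ∧ p ^ β ≠ 3 ∧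
      (Nonempty (X ≃* Matrix.ProjectiveSpecialLinearGroup (Fin 2) K) ∨
        Nonempty (X ≃* Matrix.ProjGenLinGroup (Fin 2) K))) ∨
    ((p ^ α % 10 = 1 ∨ p ^ α % 10 = 9) ∧ ∃ (K : Type) (_ : Field K) (_ : Fintype K), Fintype.card K = 5 ∧
      Nonempty (X ≃* Matrix.ProjectiveSpecialLinearGroup (Fin 2) K)) from by
    obtain ⟨eX⟩ := htop h
    rcases hY with ⟨K, iK, iK', β, h1, h2, h3, ⟨e⟩⟩ | ⟨⟨e⟩⟩
    · exact Or.inl ⟨K, iK, iK', β, h1, h2, h3, Or.inl ⟨eX.trans e⟩⟩
    · haveI : Fact (Nat.Prime 5) := ⟨by norm_num⟩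
      obtain ⟨c⟩ := H2.ChiFour.psl_equiv_alt
      by_cases h5 : p = 5
      · subst h5
        exact Or.inl ⟨ZMod 5, inferInstance, inferInstance, 1, by simp, one_dvd α, by norm_num,
          Or.inl ⟨(eX.trans e).trans c.symm⟩⟩
      refine Or.inr ⟨?_, ZMod 5, inferInstance, inferInstance, ZMod.card 5, ⟨(eX.trans e).trans c.symm⟩⟩
      have h60 : Nat.card g.range = 60 := by
        rw [Nat.card_congr e.toEquiv, nat_card_alternatingGroup]; simp [Nat.factorial]
      have hdvd : 5 ∣ Nat.card (Matrix.ProjectiveSpecialLinearGroup (Fin 2) F) :=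
        (show 5 ∣ Nat.card g.range by rw [h60]; norm_num).trans (Subgroup.card_subgroup_dvd_card _)
      have h2' : 5 ∣ p ^ α * ((p ^ α) ^ 2 - 1) := by
        rw [← hF, ← card_PSL_two_mul]; exact hdvd.mul_left _
      have h5α : ¬ 5 ∣ p ^ α := fun h => h5 (((Nat.prime_dvd_prime_iff_eq (by norm_num) Fact.out).mp
        (Nat.Prime.dvd_of_dvd_pow (by norm_num) h)).symm)
      have h3' : 5 ∣ (p ^ α) ^ 2 - 1 := ((Nat.Prime.dvd_mul (by norm_num)).mp h2').resolve_left h5α
      obtain ⟨k, hk⟩ := hodd α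
      set q := p ^ α
      have hq2 : q ^ 2 % 5 = 1 := by
        have : 1 ≤ q ^ 2 := Nat.one_le_pow _ _ (by omega)
        omega
      rw [Nat.pow_mod] at hq2
      have : q % 5 < 5 := Nat.mod_lt _ (by norm_num)
      have hcases : q % 5 = 1 ∨ q % 5 = 4 := by
        interval_cases hr : q % 5 <;> simp_all
      omega
  -- `PGL₂(F)` inside `PSL₂` of the quadratic extension
  obtain ⟨n, hn'⟩ : ∃ n : ℕ, n = α := ⟨α, rfl⟩
  have hα0 : α ≠ 0 := fun h => by
    rw [h, pow_zero] at hF
    exact Fintype.one_lt_card.ne' hF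
  letI : Fintype (GaloisField p (2 * α)) := Fintype.ofFinite _
  have hEc : Fintype.card F ^ 2 = Fintype.card (GaloisField p (2 * α)) := by
    rw [← Nat.card_eq_fintype_card (α := GaloisField p (2 * α)), GaloisField.card p _ (by omega), hF,
      ← pow_mul, mul_comm]
  obtain ⟨j⟩ := exists_ringHom (K := F) (F := GaloisField p (2 * α)) one_le_two hEc
  obtain ⟨lam, ν, hν, hgen⟩ := exists_sqrt_gen j even_two (hF ▸ hodd α) hEc
  obtain ⟨e⟩ := nonempty_pglSub_equiv j 1 hν hgen
  let Φ : X →* Matrix.ProjectiveSpecialLinearGroup (Fin 2) (GaloisField p (2 * α)) :=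
    ((pglSub j (1 : (GaloisField p (2 * α))ˣ) lam).subtype.comp e.symm.toMonoidHom).comp f
  have hΦ : Function.Injective Φ :=
    ((pglSub j (1 : (GaloisField p (2 * α))ˣ) lam).subtype_injective.comp e.symm.injective).comp hf
  let eX : X ≃* Φ.range := MonoidHom.ofInjective hΦ
  have hsolv : Group.IsSolvable Φ.range → False := fun h => by
    haveI := h
    exact false_of_iso_solvable (eX.toMonoidHom.comp ι) (eX.injective.comp hι)
  rcases shape p Φ.range with h | h | ⟨⟨c⟩⟩ | ⟨⟨c⟩⟩ | ⟨⟨c⟩⟩ | ⟨K, iK, iK', jK, z, w, h⟩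
  · exact (hsolv (InBorel.isSolvable h)).elim
  · exact (hsolv (InTorus.isSolvable h)).elim
  · haveI : Group.IsSolvable (Equiv.Perm (Fin 4)) := H63.PerfectAction.isSolvable_perm_le_four (by simp)
    exact (hsolv (Group.isSolvable_of_isSolvable_injective (f := c.toMonoidHom) c.injective)).elim
  · haveI : Group.IsSolvable (Equiv.Perm (Fin 4)) := H63.PerfectAction.isSolvable_perm_le_four (by simp)
    exact (hsolv (Group.isSolvable_of_isSolvable_injective (f := c.toMonoidHom) c.injective)).elim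
  · haveI := alternatingGroup.isSimpleGroup (α := Fin 5) (by simp)
    exact hsame (IsSimpleGroup.isSimpleGroup_of_surjective (eX.trans c).symm.toMonoidHom (MulEquiv.surjective _))
  · haveI : CharP K p := (RingHom.charP_iff jK jK.injective p).mpr inferInstance
    obtain ⟨b, -, hb⟩ := FiniteField.card K p
    have hKodd : Odd (Fintype.card K) := hb ▸ hodd b
    have hK4 : 4 ≤ Nat.card K ∨ Fintype.card K = 3 := by
      rw [Nat.card_eq_fintype_card]
      have : 2 ≤ Fintype.card K := Fintype.one_lt_card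
      obtain ⟨k, hk⟩ := hKodd
      omega
    have hno3 : ∀ {M : Type} [Group M], (Y →* M) → Nonempty (M ≃* Matrix.ProjectiveSpecialLinearGroup (Fin 2) K) →
        Fintype.card K = 3 → ∀ u : Y →* M, Function.Injective u → False := by
      intro M _ _ ⟨em⟩ h3 u hu
      obtain ⟨a4⟩ := H27.ProjLine.psl_two_equiv_alternating (F := K) (n := 4) (by omega) (by
        have := card_PSL_two_mul (F := K)
        rw [h3] at this
        norm_num at this
        rw [show (4 : ℕ).factorial = 24 from rfl]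
        simp only [Nat.card_eq_fintype_card] at this ⊢
        omega)
      haveI : Group.IsSolvable (Equiv.Perm (Fin 4)) := H63.PerfectAction.isSolvable_perm_le_four (by simp)
      exact false_of_iso_solvable ((alternatingGroup (Fin 4)).subtype.comp ((em.trans a4).toMonoidHom.comp u))
        (Subtype.val_injective.comp ((em.trans a4).injective.comp hu))
    have hsimp : 4 ≤ Nat.card K → IsSimpleGroup (Matrix.ProjectiveSpecialLinearGroup (Fin 2) K) :=
      fun h => Matrix.ProjectiveSpecialLinearGroup.rank_two_simple h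
    rcases h with h | ⟨lam', ν', h1, h2, h⟩
    · obtain ⟨c⟩ := nonempty_pslSub_equiv jK w
      let eK : X ≃* Matrix.ProjectiveSpecialLinearGroup (Fin 2) K :=
        (eX.trans (MulEquiv.subgroupCongr h)).trans
          (((pslSub jK w).equivMapOfInjective (MulAut.conj z).toMonoidHom (MulAut.conj z).injective).symm.trans c)
      rcases hK4 with h4 | h3
      · haveI := hsimp h4
        exact hsame (IsSimpleGroup.isSimpleGroup_of_surjective eK.symm.toMonoidHom eK.symm.surjective)
      · exact (hno3 (eK.toMonoidHom.comp ι) ⟨MulEquiv.refl _⟩ h3 (eK.toMonoidHom.comp ι)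
          (eK.injective.comp hι)).elim
    · obtain ⟨c⟩ := nonempty_pglSub_equiv jK w h1 h2
      let eK : X ≃* Matrix.ProjGenLinGroup (Fin 2) K :=
        (eX.trans (MulEquiv.subgroupCongr h)).trans
          (((pglSub jK w lam').equivMapOfInjective (MulAut.conj z).toMonoidHom (MulAut.conj z).injective).symm.trans c)
      obtain ⟨v, hv⟩ := exists_psl_lift (eK.toMonoidHom.comp ι)
      have hvi : Function.Injective v := fun a b hab => hι (eK.injective (by
        have := congrArg Matrix.ProjectiveSpecialLinearGroup.toPGL hab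
        rwa [hv, hv] at this))
      have h4 : 4 ≤ Nat.card K := hK4.resolve_right fun h3 => hno3 v ⟨MulEquiv.refl _⟩ h3 v hvi
      haveI := hsimp h4
      have hvn : v.range.Normal := ⟨fun a ⟨y, hy⟩ b => by
        let T : Matrix.ProjectiveSpecialLinearGroup (Fin 2) K →* Matrix.ProjGenLinGroup (Fin 2) K :=
          Matrix.ProjectiveSpecialLinearGroup.toPGL
        have hm := hn.conj_mem (ι y) ⟨y, rfl⟩ (eK.symm (T b))
        obtain ⟨y', hy'⟩ := hm
        refine ⟨y', Matrix.ProjectiveSpecialLinearGroup.toPGL_injective ?_⟩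
        rw [hv, MonoidHom.comp_apply, hy', map_mul, map_mul, map_inv]
        simp only [MulEquiv.toMonoidHom_eq_coe, MonoidHom.coe_coe, MulEquiv.apply_symm_apply]
        rw [← hy, map_mul, map_mul, map_inv, hv]
        rfl⟩
      have hvtop : v.range = ⊤ := hvn.eq_bot_or_eq_top.resolve_left fun e => by
        obtain ⟨y, hy⟩ := exists_ne (1 : Y)
        exact hy (hvi ((Subgroup.mem_bot.mp (e ▸ (⟨y, rfl⟩ : v y ∈ v.range))).trans (map_one v).symm))
      have hcY : Nat.card g.range = Nat.card (Matrix.ProjectiveSpecialLinearGroup (Fin 2) K) := by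
        rw [← Nat.card_congr eY.toEquiv, Nat.card_congr (MonoidHom.ofInjective hvi).toEquiv, hvtop,
          Nat.card_congr Subgroup.topEquiv.toEquiv]
      rcases hY with ⟨L, iL, iL', β, hL, hβ, hβ3, ⟨eL⟩⟩ | ⟨⟨eA⟩⟩
      · have hcc := card_eq_of_psl_card (hKodd) (hL ▸ hodd β)
          (hcY.symm.trans (Nat.card_congr eL.toEquiv))
        rw [hb, hL] at hcc
        exact Or.inl ⟨K, iK, iK', b, hb, (Nat.pow_right_injective (Fact.out : p.Prime).two_le hcc) ▸ hβ,
          hcc.trans_ne hβ3, Or.inr ⟨eK⟩⟩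
      · haveI : Fact (Nat.Prime 5) := ⟨by norm_num⟩
        obtain ⟨c5⟩ := H2.ChiFour.psl_equiv_alt
        have hcc := card_eq_of_psl_card hKodd (show Odd (Fintype.card (ZMod 5)) by rw [ZMod.card]; decide)
          (hcY.symm.trans (Nat.card_congr (eA.trans c5.symm).toEquiv))
        rw [ZMod.card] at hcc
        have hp5 : p = 5 := (Nat.prime_dvd_prime_iff_eq Fact.out (by norm_num)).mp
          (hcc ▸ hb ▸ dvd_pow_self p b.pos.ne')
        have hb1 : (b : ℕ) = 1 := Nat.pow_right_injective (show 2 ≤ 5 by norm_num)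
          (show 5 ^ (b : ℕ) = 5 ^ 1 by rw [pow_one, ← hp5, ← hb, hcc, hp5])
        exact Or.inl ⟨K, iK, iK', b, hb, hb1 ▸ one_dvd α, by rw [← hb, hcc]; norm_num, Or.inr ⟨eK⟩⟩

end Cfsg.Agent.Linear.Mitchell.Subgroups
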