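import Cfsg.Agent.Linear.Mitchell.Subgroups.Transfer
import Cfsg.Agent.Linear.Mitchell.Subgroups.Projective
import Cfsg.Agent.H27.RankThree
import Cfsg.Agent.Aschbacher.FormCongruence

/-!
The subgroups of `SL₃(F)` whose layer fixes a quadratic form embed into `PGL₂(F)` modulo scalars.
-/

set_option autoImplicit false
set_option linter.style.haveILetI false

namespace Cfsg.Agent.Linear.Mitchell.Subgroups

open scoped MatrixGroups Matrix
open Cfsg.Geo Cfsg.Agent.H27.LowRank Cfsg.Agent.H27.RankThree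
open Cfsg.Agent.Aschbacher (isSesq_of_bilinear gtr formOfGram_mulVec formOfGram_eq gram_formOfGram)

variable {F : Type*} [Field F] [Fintype F] {G P : Subgroup (GL (Fin 3) F)}

local notation "M3" => Matrix (Fin 3) (Fin 3) F
local notation "V3" => (Unit ⊕ (Fin 1 ⊕ Fin 1) → F)
local notation "O3" => Cfsg.isometryGroup F (Cfsg.quadFormOdd 1 F)

/-- The negation. -/
noncomputable def negO : O3 :=
  isoInv (-LinearMap.id) (fun v => by simp) (fun v => by simp [Cfsg.quadFormOdd])

theorem negO_mulVec (v : V3) :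
    ((negO (F := F)).1 : Matrix (Unit ⊕ (Fin 1 ⊕ Fin 1)) (Unit ⊕ (Fin 1 ⊕ Fin 1)) F) *ᵥ v = -v :=
  (isoInv_mulVec _ _ _ v).trans (by simp)

theorem conjHom_ne_neg (h2 : (2 : F) ≠ 0) (A : GL (Fin 2) F) : conjHom A ≠ negO := by
  intro hA
  have hc : ∀ M : Matrix (Fin 2) (Fin 2) F, M 0 0 + M 1 1 = 0 →
      -(M * (A : Matrix (Fin 2) (Fin 2) F)) = (A : Matrix (Fin 2) (Fin 2) F) * M := by
    intro M hM
    have := toMat_conjHom A (ofMat M)
    rwa [hA, negO_mulVec, map_neg, toMat_ofMat hM, Matrix.neg_mul] at this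
  have h1 := hc !![1, 0; 0, -1] (by simp)
  have h3 := hc !![0, 1; 0, 0] (by simp)
  have a := congrFun (congrFun h1 0) 0
  have d := congrFun (congrFun h1 1) 1
  have c := congrFun (congrFun h3 0) 0
  simp [Matrix.mul_apply, Fin.sum_univ_two, Matrix.vecMul, dotProduct] at a d c
  have ha : (A : Matrix (Fin 2) (Fin 2) F) 0 0 = 0 :=
    (mul_eq_zero.1 (show (2 : F) * (A : Matrix (Fin 2) (Fin 2) F) 0 0 = 0 by linear_combination -a)).resolve_left h2
  exact (A.isUnit.map Matrix.detMonoidHom).ne_zero (by simp [Matrix.det_fin_two, ha, c])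

theorem conjHom_scalar (z : GL (Fin 2) F) (hz : z ∈ Subgroup.center (GL (Fin 2) F)) : conjHom z = 1 := by
  refine iso_ext fun v => ?_
  rw [conjHom_mulVec, Subgroup.coe_one, Units.val_one, Matrix.one_mulVec]
  rw [Matrix.GeneralLinearGroup.center_eq_range_scalar] at hz
  obtain ⟨u, rfl⟩ := hz
  have e : ((Matrix.GeneralLinearGroup.scalar (Fin 2) u : GL (Fin 2) F) : Matrix (Fin 2) (Fin 2) F) =
      (u : F) • 1 := by
    show Matrix.scalar (Fin 2) (u : F) = _
    rw [Matrix.scalar_apply, Matrix.smul_one_eq_diagonal]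
  have e' : (((Matrix.GeneralLinearGroup.scalar (Fin 2) u)⁻¹ : GL (Fin 2) F) : Matrix (Fin 2) (Fin 2) F) =
      ((u⁻¹ : Fˣ) : F) • 1 := by
    rw [← map_inv]
    show Matrix.scalar (Fin 2) ((u⁻¹ : Fˣ) : F) = _
    rw [Matrix.scalar_apply, Matrix.smul_one_eq_diagonal]
  rw [e, e', smul_mul_assoc, one_mul, smul_mul_smul_comm, mul_one, ← Units.val_mul, mul_inv_cancel,
    Units.val_one, one_smul, ofMat_toMat]

/-- `O₃` modulo `±1` is `PGL₂`. -/
theorem exists_to_pgl (hodd : Odd (Fintype.card F)) :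
    ∃ τ : O3 →* Matrix.ProjGenLinGroup (Fin 2) F, ∀ g, τ g = 1 → g = 1 ∨ g = negO := by
  classical
  have h2 : (2 : F) ≠ 0 := Cfsg.Agent.Linear.two_ne_zero_of_odd_card hodd
  have hcomm : ∀ g : O3, g * negO = negO * g := fun g => iso_ext fun v => by
    rw [iso_mul_mulVec, iso_mul_mulVec, negO_mulVec, negO_mulVec, Matrix.mulVec_neg]
  have hnn : negO * negO = (1 : O3) := iso_ext fun v => by
    rw [iso_mul_mulVec, negO_mulVec, negO_mulVec, neg_neg, Subgroup.coe_one, Units.val_one, Matrix.one_mulVec]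
  set C : Subgroup O3 := Subgroup.zpowers negO with hC
  haveI hCn : C.Normal := ⟨fun x hx g => by
    obtain ⟨k, rfl⟩ := Subgroup.mem_zpowers_iff.mp hx
    rw [((show Commute g negO from hcomm g).zpow_right k).eq, mul_inv_cancel_right]
    exact ⟨k, rfl⟩⟩
  have hmem : ∀ x ∈ C, x = 1 ∨ x = negO := fun x hx => by
    obtain ⟨k, rfl⟩ := Subgroup.mem_zpowers_iff.mp hx
    have hn2 : (negO : O3) ^ (2 : ℤ) = 1 := by rw [zpow_two]; exact hnn
    rcases Int.even_or_odd k with ⟨j, rfl⟩ | ⟨j, rfl⟩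
    · exact Or.inl (by rw [← two_mul, zpow_mul, hn2, one_zpow])
    · exact Or.inr (by rw [zpow_add, zpow_mul, hn2, one_zpow, one_mul, zpow_one])
  have hn1 : (negO : O3) ≠ 1 := fun h => by
    have := negO_mulVec (F := F) (fun _ => 1)
    rw [h, Subgroup.coe_one, Units.val_one, Matrix.one_mulVec] at this
    have h1 := congrFun this (.inl ())
    simp only [Pi.neg_apply] at h1
    exact h2 (by linear_combination h1)
  have hCc : Nat.card C = 2 := by
    rw [hC, Nat.card_zpowers]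
    exact orderOf_eq_prime (by rw [sq]; exact hnn) hn1
  let f : GL (Fin 2) F →* O3 ⧸ C := (QuotientGroup.mk' C).comp conjHom
  have hker : Subgroup.center (GL (Fin 2) F) ≤ f.ker := fun z hz => by
    rw [MonoidHom.mem_ker, MonoidHom.comp_apply, conjHom_scalar z hz, map_one]
  let Φ : Matrix.ProjGenLinGroup (Fin 2) F →* O3 ⧸ C := QuotientGroup.lift _ f hker
  have hinj : Function.Injective Φ := by
    rw [injective_iff_map_eq_one]
    intro X hX
    obtain ⟨A, rfl⟩ := Matrix.ProjGenLinGroup.mk_surjective X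
    rcases hmem _ ((QuotientGroup.eq_one_iff _).mp (hX : f A = 1)) with h | h
    · obtain ⟨h01, h10, h00⟩ := scalar_of_conj_eq_one h
      have ha : (A : Matrix (Fin 2) (Fin 2) F) 0 0 ≠ 0 := fun h0 =>
        (A.isUnit.map Matrix.detMonoidHom).ne_zero (by simp [Matrix.det_fin_two, h0, h01])
      refine (QuotientGroup.eq_one_iff A).mpr ?_
      rw [Matrix.GeneralLinearGroup.center_eq_range_scalar]
      refine ⟨Units.mk0 _ ha, Units.ext ?_⟩
      show Matrix.scalar (Fin 2) ((A : Matrix (Fin 2) (Fin 2) F) 0 0) = _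
      ext i j
      fin_cases i <;> fin_cases j <;> simp [Matrix.scalar_apply, h01, h10, h00]
    · exact absurd h (conjHom_ne_neg h2 A)
  have hcard : Nat.card (O3 ⧸ C) = Nat.card (Matrix.ProjGenLinGroup (Fin 2) F) := by
    have h := C.card_eq_card_quotient_mul_card_subgroup
    rw [hCc, Cfsg.Agent.S0286.result rfl hodd 1] at h
    rw [Cfsg.Agent.Linear.card_PGL_eq, Cfsg.Agent.Linear.card_SL_two]
    simp at h
    simp [Nat.card_eq_fintype_card] at h ⊢
    linarith
  let e : Matrix.ProjGenLinGroup (Fin 2) F ≃* O3 ⧸ C :=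
    MulEquiv.ofBijective Φ ((Nat.bijective_iff_injective_and_card Φ).mpr ⟨hinj, hcard.symm⟩)
  refine ⟨e.symm.toMonoidHom.comp (QuotientGroup.mk' C), fun g hg => hmem g ?_⟩
  exact (QuotientGroup.eq_one_iff g).mp (e.symm.injective (hg.trans (map_one _).symm))

/-- The quadratic case: `G` modulo scalars embeds in `PGL₂(F)`. -/
theorem exists_embedding_pgl (hodd : Odd (Fintype.card F)) (hG : G ≤ specialLinear (Fin 3) F)
    (hi : ∀ g ∈ G, ∀ x ∈ P, g * x * g⁻¹ ∈ P) (hS : Setting P)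
    {Q : (Fin 3 → F) → F} (hQ : IsNondegenerateQuadraticForm Q) (hfix : FixesQuadForm (matrixSet P) Q) :
    ∃ f : PX G →* Matrix.ProjGenLinGroup (Fin 2) F, Function.Injective f := by
  classical
  have h2 : (2 : F) ≠ 0 := Cfsg.Agent.Linear.two_ne_zero_of_odd_card hodd
  have hsim : G ≤ quadSimilarityGroup Q := Aschbacher.le_quadSimilarityGroup hS.abs hi hQ h2 hfix
  have hsim' : ∀ g : G, ∃ c : Fˣ, ∀ v, Q (((g : GL (Fin 3) F) : M3) *ᵥ v) = (c : F) * Q v := fun g => hsim g.2
  choose mu hmu using hsim'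
  -- the multiplier is a cube root of unity
  have hf : Aschbacher.IsSesq (RingEquiv.refl F) (QuadraticMap.polar Q) := isSesq_of_bilinear hQ.polar_bilinear
  set B := gramMatrix (QuadraticMap.polar Q) with hB
  have hBd : B.det ≠ 0 :=
    isUnit_iff_ne_zero.mp ((Matrix.isUnit_iff_isUnit_det B).mp (Aschbacher.isUnit_gram hf hQ.nondegenerate))
  have hmu3 : ∀ g, (mu g : F) ^ 3 = 1 := by
    intro g
    have hgg : gtr (RingEquiv.refl F) B ((g : GL (Fin 3) F) : M3) = (mu g : F) • B := by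
      have e : formOfGram (RingEquiv.refl F) (gtr (RingEquiv.refl F) B ((g : GL (Fin 3) F) : M3)) =
          formOfGram (RingEquiv.refl F) ((mu g : F) • B) := by
        funext x y
        rw [← formOfGram_mulVec, hB, ← hf.eq_formOfGram, formOfGram_eq, Matrix.smul_mulVec, dotProduct_smul,
          ← formOfGram_eq, ← hf.eq_formOfGram, smul_eq_mul]
        simp only [QuadraticMap.polar, ← Matrix.mulVec_add, hmu]
        ring
      have := congrArg gramMatrix e
      rwa [gram_formOfGram, gram_formOfGram] at this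
    have h := congrArg Matrix.det hgg
    rw [gtr, Matrix.det_mul, Matrix.det_mul, Matrix.det_transpose, Matrix.det_smul, Fintype.card_fin,
      show (((g : GL (Fin 3) F) : M3).map (RingEquiv.refl F)) = ((g : GL (Fin 3) F) : M3) from Matrix.map_id _,
      det_of_mem_sl (hG g.2), one_mul, mul_one] at h
    exact (mul_eq_right₀ hBd).mp h.symm
  have hQne : ∃ v, Q v ≠ 0 := by
    by_contra hz
    push Not at hz
    obtain ⟨⟨y, hy⟩, -⟩ := hQ.nondegenerate (Pi.single 0 1) (by simp)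
    exact hy (by simp [QuadraticMap.polar, hz])
  obtain ⟨v₀, hv₀⟩ := hQne
  have huniq : ∀ g c, Q (((g : G) : GL (Fin 3) F).1 *ᵥ v₀) = c * Q v₀ → c = (mu g : F) := fun g c h => by
    rw [hmu] at h
    exact (mul_right_cancel₀ hv₀ h).symm
  have hmul : ∀ a b : G, (mu (a * b) : F) = mu a * mu b := fun a b => (huniq (a * b) _ (by
    rw [Subgroup.coe_mul, Units.val_mul, ← Matrix.mulVec_mulVec, hmu, hmu, mul_assoc])).symm
  have hone : (mu 1 : F) = 1 := (huniq 1 1 (by simp)).symm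
  -- the standard form
  let Qf : QuadraticForm F (Fin 3 → F) := QuadraticMap.ofPolar Q
    (fun a x => by rw [smul_eq_mul, ← sq]; exact hQ.smul a x) hQ.polar_bilinear.add_left
    (fun a x y => hQ.polar_bilinear.smul_left a x y)
  have hQf : ∀ v, Qf v = Q v := fun _ => rfl
  have hnd : Orthogonal.Nondeg Qf := fun x hx => by
    by_contra hne
    obtain ⟨-, y, hy⟩ := hQ.nondegenerate x hne
    exact hy (hx y)
  obtain ⟨-, a, E, ha, hE⟩ := hnd.classify_odd (m := 1) (by simp)
  let ρ₀ : G →* Module.End F V3 :=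
    { toFun := fun g => E.symm.toLinearMap ∘ₗ ((mu g : F) • (((g : GL (Fin 3) F) : M3)).mulVecLin) ∘ₗ E.toLinearMap
      map_one' := LinearMap.ext fun v => by simp [hone]
      map_mul' := fun x y => LinearMap.ext fun v => by
        simp [hmul, Matrix.mulVec_mulVec, Matrix.mulVec_smul, smul_smul, mul_comm] }
  have hρ₀ : ∀ g v, Cfsg.quadFormOdd 1 F (ρ₀ g v) = Cfsg.quadFormOdd 1 F v := by
    intro g v
    have e1 : Q (E (ρ₀ g v)) = Q (E v) := by
      have : E (ρ₀ g v) = (mu g : F) • (((g : GL (Fin 3) F) : M3) *ᵥ E v) := by simp [ρ₀]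
      rw [this, hQ.smul, hmu, ← mul_assoc, ← pow_succ, hmu3, one_mul]
    rw [← hQf, ← hQf, hE, hE] at e1
    exact mul_left_cancel₀ ha e1
  let ρ : G →* O3 := isoHom ρ₀ hρ₀
  obtain ⟨τ, hτ⟩ := exists_to_pgl (F := F) hodd
  have hscal : (scalars (Fin 3) F).subgroupOf G ≤ (τ.comp ρ).ker := by
    intro g hg
    obtain ⟨u, hu⟩ := (mem_scalars_iff _).mp (Subgroup.mem_subgroupOf.mp hg)
    rw [MonoidHom.mem_ker, MonoidHom.comp_apply, show ρ g = 1 from iso_ext fun v => ?_, map_one]
    have hu3 : (u : F) ^ 3 = 1 := by simpa [hu] using det_of_mem_sl (hG g.2)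
    have hmug : (mu g : F) = (u : F) ^ 2 := (huniq g _ (by
      rw [hu, Matrix.smul_mulVec, Matrix.one_mulVec, hQ.smul])).symm
    rw [isoHom_mulVec, Subgroup.coe_one, Units.val_one, Matrix.one_mulVec]
    simp only [ρ₀, MonoidHom.coe_mk, OneHom.coe_mk, LinearMap.comp_apply, LinearMap.smul_apply,
      Matrix.mulVecLin_apply, LinearEquiv.coe_coe]
    rw [hu, Matrix.smul_mulVec, Matrix.one_mulVec, smul_smul, hmug, ← pow_succ, hu3, one_smul,
      LinearEquiv.symm_apply_apply]
  refine ⟨QuotientGroup.lift _ (τ.comp ρ) hscal, (injective_iff_map_eq_one _).mpr fun X hX => ?_⟩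
  obtain ⟨g, rfl⟩ := px_surjective X
  have h1 : τ (ρ g) = 1 := hX
  -- `g` is a scalar
  obtain ⟨r, hr⟩ : ∃ r : F, ∀ w, (mu g : F) • (((g : GL (Fin 3) F) : M3) *ᵥ w) = r • w := by
    have key : ∀ v, (ρ g).1.1 *ᵥ v = E.symm ((mu g : F) • (((g : GL (Fin 3) F) : M3) *ᵥ E v)) := fun v =>
      (isoHom_mulVec ρ₀ hρ₀ g v).trans (by simp [ρ₀])
    rcases hτ _ h1 with h | h
    · refine ⟨1, fun w => ?_⟩
      have := key (E.symm w)
      rw [h, Subgroup.coe_one, Units.val_one, Matrix.one_mulVec, E.apply_symm_apply] at this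
      rw [one_smul]
      exact (E.symm.injective this).symm
    · refine ⟨-1, fun w => ?_⟩
      have := key (E.symm w)
      rw [h, negO_mulVec, E.apply_symm_apply, ← map_neg] at this
      rw [neg_one_smul]
      exact (E.symm.injective this).symm
  refine px_eq_one.mpr ⟨(mu g : F)⁻¹ * r, Matrix.ext_iff_mulVec.mpr fun w => ?_⟩
  rw [Matrix.smul_mulVec, Matrix.one_mulVec, mul_smul, ← hr, smul_smul, inv_mul_cancel₀ (mu g).ne_zero, one_smul]

/-- The quadratic outcome. -/
theorem quad_case (p α : ℕ) [Fact p.Prime] [CharP F p] (hp : p ≠ 2) (hF : Fintype.card F = p ^ α)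
    (hG : G ≤ specialLinear (Fin 3) F) (hle : P ≤ G) (hi : Invt G P) (hS : Setting P)
    {Q : (Fin 3 → F) → F} (hQ : IsNondegenerateQuadraticForm Q) (hfix : FixesQuadForm (matrixSet P) Q) :
    List5711 p α (PX G) := by
  obtain ⟨f, hf⟩ := exists_embedding_pgl (hF ▸ ((Fact.out : p.Prime).odd_of_ne_two hp).pow) hG hi hS hQ hfix
  haveI := hS.simple
  haveI := hS.isPerfect
  have hn : (pxIncl hle).range.Normal := ⟨by
    rintro _ ⟨X, rfl⟩ Y
    obtain ⟨x, rfl⟩ := px_surjective X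
    obtain ⟨g, rfl⟩ := px_surjective Y
    exact ⟨px P ⟨g * x * (g : GL (Fin 3) F)⁻¹, hi g g.2 x x.2⟩, rfl⟩⟩
  rcases projective_shapes p α hp hF f hf (pxIncl hle) (pxIncl_injective hle) hn with h | h
  · exact Or.inr (Or.inr (Or.inr (Or.inr (Or.inl h))))
  · exact Or.inr (Or.inr (Or.inr (Or.inr (Or.inr (Or.inl h)))))

end Cfsg.Agent.Linear.Mitchell.Subgroups
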