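import Cfsg.Agent.Linear.Dickson.Main
import Cfsg.Agent.Linear.Dickson.Orders
import Cfsg.Agent.H27.ProjLine
import Cfsg.Agent.H63.PerfectAction

/-!
The perfect subgroups of `PSL₂` over a finite field of odd order, from Dickson's list.
-/

set_option autoImplicit false
set_option linter.style.haveILetI false

namespace Cfsg.Agent.Linear.Mitchell.Subgroups

open scoped MatrixGroups Matrix
open Cfsg.Agent.Linear Cfsg.Agent.Linear.Dickson

variable {F : Type*} [Field F] [Fintype F]

/-- A perfect group is isomorphic to no nontrivial soluble group. -/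
theorem false_of_iso_solvable {L S : Type*} [Group L] [Group S] [Nontrivial L] [Group.IsPerfect L]
    [Group.IsSolvable S] (f : L →* S) (hf : Function.Injective f) : False := by
  obtain ⟨x, hx⟩ := exists_ne (1 : L)
  exact hx (hf (by rw [H63.PerfectAction.hom_trivial f x, map_one]))

/-- `PGL₂` over a field of odd order is not perfect. -/
theorem false_of_pgl {K : Type*} [Field K] [Fintype K] (h2 : (2 : K) ≠ 0) {L : Type*} [Group L]
    [Group.IsPerfect L] (e : L ≃* Matrix.ProjGenLinGroup (Fin 2) K) : False := by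
  classical
  let S := (powMonoidHom 2 : Kˣ →* Kˣ).range
  let f : GL (Fin 2) K →* Kˣ ⧸ S := (QuotientGroup.mk' S).comp Matrix.GeneralLinearGroup.det
  have hker : Subgroup.center (GL (Fin 2) K) ≤ f.ker := by
    intro z hz
    rw [Matrix.GeneralLinearGroup.center_eq_range_scalar] at hz
    obtain ⟨u, rfl⟩ := hz
    rw [MonoidHom.mem_ker]
    refine (QuotientGroup.eq_one_iff _).mpr ⟨u, Units.ext ?_⟩
    simp [Matrix.scalar_apply, Matrix.det_diagonal, sq]
  let g : Matrix.ProjGenLinGroup (Fin 2) K →* Kˣ ⧸ S := QuotientGroup.lift _ f hker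
  have : Group.IsSolvable (Kˣ ⧸ S) := Group.isSolvable_of_comm fun a b => mul_comm a b
  have htriv : ∀ A : GL (Fin 2) K, f A = 1 := fun A => by
    obtain ⟨x, hx⟩ := e.surjective (Matrix.ProjGenLinGroup.mk A)
    have h := H63.PerfectAction.hom_trivial (g.comp e.toMonoidHom) x
    exact ((congrArg g hx).symm.trans h : g (Matrix.ProjGenLinGroup.mk A) = 1)
  obtain ⟨a, ha⟩ := FiniteField.exists_nonsquare (F := K) (by
    intro hc
    exact h2 ((ringChar.spec K 2).mpr (by rw [hc])))
  have ha0 : a ≠ 0 := fun h => ha (h ▸ IsSquare.zero)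
  obtain ⟨u, hu⟩ := (QuotientGroup.eq_one_iff _).mp
    (htriv (Matrix.GeneralLinearGroup.mkOfDetNeZero !![a, 0; 0, 1] (by simp [Matrix.det_fin_two, ha0])))
  refine ha ⟨u, ?_⟩
  have := congrArg Units.val hu
  simp only [powMonoidHom_apply, Units.val_pow_eq_pow_val, sq] at this
  simpa [Matrix.GeneralLinearGroup.mkOfDetNeZero, Matrix.det_fin_two] using this.symm

/-- The perfect subgroups of `PSL₂(F)`. -/
theorem psl_two_of_perfect (p α : ℕ) [Fact p.Prime] [CharP F p] (hp : p ≠ 2)
    (hF : Fintype.card F = p ^ α) (L : Subgroup (Matrix.ProjectiveSpecialLinearGroup (Fin 2) F))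
    [Nontrivial L] [Group.IsPerfect L] :
    (∃ (K : Type) (_ : Field K) (_ : Fintype K) (β : ℕ), Fintype.card K = p ^ β ∧ β ∣ α ∧ p ^ β ≠ 3 ∧
      Nonempty (L ≃* Matrix.ProjectiveSpecialLinearGroup (Fin 2) K)) ∨
    Nonempty (L ≃* alternatingGroup (Fin 5)) := by
  rcases shape p L with h | h | ⟨⟨e⟩⟩ | ⟨⟨e⟩⟩ | h | ⟨K, iK, iK', ι, g, w, h⟩
  · haveI := InBorel.isSolvable h
    exact (false_of_iso_solvable (MonoidHom.id L) Function.injective_id).elim
  · haveI := InTorus.isSolvable h
    exact (false_of_iso_solvable (MonoidHom.id L) Function.injective_id).elim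
  · haveI : Group.IsSolvable (Equiv.Perm (Fin 4)) := H63.PerfectAction.isSolvable_perm_le_four (by simp)
    exact (false_of_iso_solvable ((alternatingGroup (Fin 4)).subtype.comp e.toMonoidHom)
      (Subtype.val_injective.comp e.injective)).elim
  · haveI : Group.IsSolvable (Equiv.Perm (Fin 4)) := H63.PerfectAction.isSolvable_perm_le_four (by simp)
    exact (false_of_iso_solvable e.toMonoidHom e.injective).elim
  · exact Or.inr h
  · obtain ⟨m, hm1, hm⟩ := IsSubfield.exists_pow_eq hF ι
    haveI : CharP K p := (RingHom.charP_iff ι ι.injective p).mpr inferInstance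
    obtain ⟨n, -, hn⟩ := FiniteField.card K p
    have hdvd : (n : ℕ) ∣ α := by
      rw [hn, ← pow_mul] at hm
      exact ⟨m, (Nat.pow_right_injective (Fact.out : p.Prime).two_le hm).symm⟩
    rcases h with rfl | ⟨lam, ν, h1, h2, rfl⟩
    · obtain ⟨e⟩ := nonempty_pslSub_equiv ι w
      refine Or.inl ⟨K, iK, iK', n, hn, hdvd, fun h3 => ?_,
        ⟨((pslSub ι w).equivMapOfInjective (MulAut.conj g).toMonoidHom (MulAut.conj g).injective).symm.trans e⟩⟩
      have h34 : Fintype.card K = 3 := hn.trans h3
      obtain ⟨f⟩ := H27.ProjLine.psl_two_equiv_alternating (F := K) (n := 4) (by omega) (by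
        have := card_PSL_two_mul (F := K)
        rw [h34] at this
        norm_num at this
        rw [show (4 : ℕ).factorial = 24 from rfl]
        omega)
      haveI : Group.IsSolvable (Equiv.Perm (Fin 4)) := H63.PerfectAction.isSolvable_perm_le_four (by simp)
      let ψ := (((pslSub ι w).equivMapOfInjective (MulAut.conj g).toMonoidHom (MulAut.conj g).injective).symm.trans e).trans f
      exact false_of_iso_solvable ((alternatingGroup (Fin 4)).subtype.comp ψ.toMonoidHom)
        (Subtype.val_injective.comp ψ.injective)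
    · obtain ⟨e⟩ := nonempty_pglSub_equiv ι w h1 h2
      refine (false_of_pgl (fun h => ?_)
        (((pglSub ι w lam).equivMapOfInjective (MulAut.conj g).toMonoidHom (MulAut.conj g).injective).symm.trans e)).elim
      have := congrArg ι h
      rw [map_ofNat, map_zero] at this
      exact hp ((Nat.prime_dvd_prime_iff_eq Fact.out Nat.prime_two).mp
        ((CharP.cast_eq_zero_iff F p 2).mp (by exact_mod_cast this)))

/-- The perfect subgroups of `PSL₂(F)` have even order. -/
theorem even_card_of_perfect (p : ℕ) [Fact p.Prime] [CharP F p] (hp : p ≠ 2)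
    (L : Subgroup (Matrix.ProjectiveSpecialLinearGroup (Fin 2) F)) [Nontrivial L] [Group.IsPerfect L] :
    Even (Nat.card L) := by
  obtain ⟨α, -, hF⟩ := FiniteField.card F p
  rcases psl_two_of_perfect p α hp hF L with ⟨K, iK, iK', β, hK, -, -, ⟨e⟩⟩ | ⟨⟨e⟩⟩
  · rw [Nat.card_congr e.toEquiv]
    have hodd : Odd (Fintype.card K) := hK ▸ ((Fact.out : p.Prime).odd_of_ne_two hp).pow
    obtain ⟨k, hk⟩ := hodd
    have hg : Nat.gcd 2 (Fintype.card K - 1) = 2 :=
      Nat.gcd_eq_left (by omega)
    have hc := card_PSL_two_mul (F := K)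
    rw [hg] at hc
    have h4 : 4 ∣ Fintype.card K ^ 2 - 1 := ⟨k * (k + 1), by rw [hk]; exact Nat.sub_eq_of_eq_add (by ring)⟩
    obtain ⟨r, hr⟩ := h4
    rw [hr] at hc
    exact ⟨Fintype.card K * r, by
      have : 2 * Nat.card (Matrix.ProjectiveSpecialLinearGroup (Fin 2) K) = 2 * (2 * (Fintype.card K * r)) := by
        rw [hc]; ring
      omega⟩
  · rw [Nat.card_congr e.toEquiv]
    exact ⟨30, by rw [nat_card_alternatingGroup]; simp [Nat.factorial]⟩

end Cfsg.Agent.Linear.Mitchell.Subgroups
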