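import Cfsg.Agent.Linear.Mitchell.Subgroups.Layer
import Cfsg.Agent.Linear.Mitchell.Socle.SubSmall
import Cfsg.Agent.H27.PermFamily

/-!
From subgroups of `PSL₃(F)` to subgroups of `SL₃(F)` modulo scalars.
-/

set_option autoImplicit false
set_option linter.style.haveILetI false

namespace Cfsg.Agent.Linear.Mitchell.Subgroups

open scoped MatrixGroups Matrix commutatorElement
open Cfsg.Geo Cfsg.Agent.Linear.Mitchell.Socle

variable {F : Type*} [Field F]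

local notation "M3" => Matrix (Fin 3) (Fin 3) F

/-- The list of the statement, for a group `X` standing for the subgroup. -/
def List5711 (p α : ℕ) (X : Type*) [Group X] : Prop :=
    (∃ (K : Type) (_ : Field K) (_ : Fintype K) (β : ℕ), Fintype.card K = p ^ β ∧ β ∣ α ∧ Nonempty (X ≃* Matrix.ProjectiveSpecialLinearGroup (Fin 3) K)) ∨
    (∃ (K : Type) (_ : Field K) (_ : Fintype K) (β : ℕ), Fintype.card K = p ^ (2 * β) ∧ 2 * β ∣ α ∧ Nonempty (X ≃* Cfsg.PSU 3 K (p ^ β))) ∨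
    (∃ (K : Type) (_ : Field K) (_ : Fintype K) (β : ℕ), Fintype.card K = p ^ β ∧ 3 ∣ p ^ β - 1 ∧ 3 * β ∣ α ∧ ∃ L : Subgroup X, L.index = 3 ∧ Nonempty (↥L ≃* Matrix.ProjectiveSpecialLinearGroup (Fin 3) K)) ∨
    (∃ (K : Type) (_ : Field K) (_ : Fintype K) (β : ℕ), Fintype.card K = p ^ (2 * β) ∧ 3 ∣ p ^ β + 1 ∧ 6 * β ∣ α ∧ ∃ L : Subgroup X, L.index = 3 ∧ Nonempty (↥L ≃* Cfsg.PSU 3 K (p ^ β))) ∨
    (∃ (K : Type) (_ : Field K) (_ : Fintype K) (β : ℕ), Fintype.card K = p ^ β ∧ β ∣ α ∧ p ^ β ≠ 3 ∧ (Nonempty (X ≃* Matrix.ProjectiveSpecialLinearGroup (Fin 2) K) ∨ Nonempty (X ≃* (GL (Fin 2) K ⧸ Subgroup.center (GL (Fin 2) K))))) ∨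
    ((p ^ α % 10 = 1 ∨ p ^ α % 10 = 9) ∧ ∃ (K : Type) (_ : Field K) (_ : Fintype K), Fintype.card K = 5 ∧ Nonempty (X ≃* Matrix.ProjectiveSpecialLinearGroup (Fin 2) K)) ∨
    ((p ^ α) ^ 3 % 7 = 1 ∧ ∃ (K : Type) (_ : Field K) (_ : Fintype K), Fintype.card K = 7 ∧ Nonempty (X ≃* Matrix.ProjectiveSpecialLinearGroup (Fin 2) K)) ∨
    (p = 5 ∧ Even α ∧ (Nonempty (X ≃* ↥(alternatingGroup (Fin 6))) ∨ Nonempty (X ≃* ↥(alternatingGroup (Fin 7))) ∨
      ∃ L : Subgroup X, L.index = 2 ∧ Nonempty (↥L ≃* ↥(alternatingGroup (Fin 6))))) ∨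
    ((p ^ α % 30 = 1 ∨ p ^ α % 30 = 19) ∧ Nonempty (X ≃* ↥(alternatingGroup (Fin 6))))

theorem exists_sub_map {X Y M : Type*} [Group X] [Group Y] [Group M] (e : X ≃* Y) {n : ℕ}
    (h : ∃ L : Subgroup X, L.index = n ∧ Nonempty (↥L ≃* M)) :
    ∃ L : Subgroup Y, L.index = n ∧ Nonempty (↥L ≃* M) := by
  obtain ⟨L, hL, ⟨f⟩⟩ := h
  exact ⟨L.map e.toMonoidHom, by rw [← hL]; exact Subgroup.index_map_equiv L e,
    ⟨(L.equivMapOfInjective e.toMonoidHom e.injective).symm.trans f⟩⟩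

theorem List5711.congr {p α : ℕ} {X Y : Type*} [Group X] [Group Y] (e : X ≃* Y)
    (h : List5711 p α X) : List5711 p α Y := by
  have t : ∀ {M : Type _} [Group M], Nonempty (X ≃* M) → Nonempty (Y ≃* M) :=
    fun h => h.map fun f => e.symm.trans f
  rcases h with ⟨K, iK, iK', β, h1, h2, h3⟩ | ⟨K, iK, iK', β, h1, h2, h3⟩ | ⟨K, iK, iK', β, h1, h2, h3, h4⟩ |
    ⟨K, iK, iK', β, h1, h2, h3, h4⟩ | ⟨K, iK, iK', β, h1, h2, h3, h4⟩ | ⟨h1, K, iK, iK', h2, h3⟩ |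
    ⟨h1, K, iK, iK', h2, h3⟩ | ⟨h1, h2, h3⟩ | ⟨h1, h2⟩
  · exact Or.inl ⟨K, iK, iK', β, h1, h2, t h3⟩
  · exact Or.inr (Or.inl ⟨K, iK, iK', β, h1, h2, t h3⟩)
  · exact Or.inr (Or.inr (Or.inl ⟨K, iK, iK', β, h1, h2, h3, exists_sub_map e h4⟩))
  · exact Or.inr (Or.inr (Or.inr (Or.inl ⟨K, iK, iK', β, h1, h2, h3, exists_sub_map e h4⟩)))
  · exact Or.inr (Or.inr (Or.inr (Or.inr (Or.inl ⟨K, iK, iK', β, h1, h2, h3, h4.imp t t⟩))))
  · exact Or.inr (Or.inr (Or.inr (Or.inr (Or.inr (Or.inl ⟨h1, K, iK, iK', h2, t h3⟩)))))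
  · exact Or.inr (Or.inr (Or.inr (Or.inr (Or.inr (Or.inr (Or.inl ⟨h1, K, iK, iK', h2, t h3⟩))))))
  · exact Or.inr (Or.inr (Or.inr (Or.inr (Or.inr (Or.inr (Or.inr (Or.inl
      ⟨h1, h2, h3.imp t (Or.imp t (exists_sub_map e))⟩)))))))
  · exact Or.inr (Or.inr (Or.inr (Or.inr (Or.inr (Or.inr (Or.inr (Or.inr ⟨h1, t h2⟩)))))))

/-- No normal elementary abelian subgroup means no normal abelian subgroup. -/
theorem comm_normal_eq_bot {H : Type*} [Group H] [Finite H]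
    (hN : ∀ N : Subgroup H, N.Normal → IsMulCommutative ↥N → (∃ r : ℕ, r.Prime ∧ ∀ x ∈ N, x ^ r = 1) → N = ⊥)
    (A : Subgroup H) (hA : A.Normal) (hc : ∀ a ∈ A, ∀ b ∈ A, a * b = b * a) : A = ⊥ := by
  by_contra hne
  have h1 : Nat.card A ≠ 1 := fun h => hne (Subgroup.card_eq_one.mp h)
  set r := (Nat.card A).minFac with hr
  have hrp : r.Prime := Nat.minFac_prime h1
  let N : Subgroup H :=
    { carrier := {x | x ∈ A ∧ x ^ r = 1}
      mul_mem' := fun {a b} ha hb => ⟨A.mul_mem ha.1 hb.1, by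
        rw [(show Commute a b from hc a ha.1 b hb.1).mul_pow, ha.2, hb.2, one_mul]⟩
      one_mem' := ⟨A.one_mem, one_pow r⟩
      inv_mem' := fun {a} ha => ⟨A.inv_mem ha.1, by rw [inv_pow, ha.2, inv_one]⟩ }
  have hNb := hN N ⟨fun x hx g => ⟨hA.conj_mem x hx.1 g, by rw [conj_pow, hx.2]; simp⟩⟩
    ⟨⟨fun a b => Subtype.ext (hc a a.2.1 b b.2.1)⟩⟩ ⟨r, hrp, fun x hx => hx.2⟩
  haveI : Fact r.Prime := ⟨hrp⟩
  obtain ⟨x, hx⟩ := exists_prime_orderOf_dvd_card' (G := A) r (Nat.minFac_dvd _)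
  have hxN : (x : H) ∈ N := ⟨x.2, by rw [← Subgroup.coe_pow, ← hx, pow_orderOf_eq_one, Subgroup.coe_one]⟩
  rw [hNb, Subgroup.mem_bot] at hxN
  rw [show x = 1 from Subtype.ext hxN, orderOf_one] at hx
  exact hrp.one_lt.ne hx

/-- A subgroup of `PSL₃(F)` is a subgroup of `SL₃(F)` modulo scalars. -/
theorem exists_lift [Fintype F] (H : Subgroup (Matrix.ProjectiveSpecialLinearGroup (Fin 3) F)) :
    ∃ G : Subgroup (GL (Fin 3) F), G ≤ specialLinear (Fin 3) F ∧ Nonempty (PX G ≃* H) := by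
  let S := Matrix.SpecialLinearGroup (Fin 3) F
  let π : S →* Matrix.ProjectiveSpecialLinearGroup (Fin 3) F := QuotientGroup.mk' (Subgroup.center S)
  let T := H.comap π
  let ι : S →* GL (Fin 3) F := Matrix.SpecialLinearGroup.toGL
  let G := T.map ι
  let e : T ≃* G := T.equivMapOfInjective ι Cfsg.Agent.Linear.toGL_injective
  let ψ : G →* H := (π.subgroupComap H).comp e.symm.toMonoidHom
  have hsurj : Function.Surjective ψ :=
    (MonoidHom.subgroupComap_surjective_of_surjective π H (QuotientGroup.mk'_surjective _)).comp e.symm.surjective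
  refine ⟨G, ?_, ⟨(QuotientGroup.quotientMulEquivOfEq ?_).trans (QuotientGroup.quotientKerEquivOfSurjective ψ hsurj)⟩⟩
  · rintro _ ⟨x, -, rfl⟩
    rw [show specialLinear (Fin 3) F = ι.range from (Cfsg.Agent.Linear.range_toGL).symm]
    exact ⟨x, rfl⟩
  ext g
  obtain ⟨t, rfl⟩ := e.surjective g
  rw [MonoidHom.mem_ker, Subgroup.mem_subgroupOf]
  have h1 : ψ (e t) = (π.subgroupComap H) t := by simp [ψ]
  rw [h1]
  have h2 : ((e t : G) : GL (Fin 3) F) = ι (t : S) := rfl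
  rw [h2, mem_scalars_iff]
  constructor
  · rintro ⟨u, hu⟩
    refine Subtype.ext ((QuotientGroup.eq_one_iff (t : S)).mpr (Matrix.SpecialLinearGroup.mem_center_iff.mpr ⟨(u : F), ?_, ?_⟩))
    · have hd : ((t : S) : M3).det = 1 := (t : S).2
      rw [show ((t : S) : M3) = (u : F) • 1 from hu, Matrix.det_smul, Matrix.det_one, mul_one] at hd
      exact hd
    · rw [show ((t : S) : M3) = (u : F) • 1 from hu, Matrix.scalar_apply, Matrix.smul_one_eq_diagonal]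
  · intro h
    obtain ⟨r, hr, hs⟩ := Matrix.SpecialLinearGroup.mem_center_iff.mp
      ((QuotientGroup.eq_one_iff (t : S)).mp (congrArg Subtype.val h))
    refine ⟨Units.mk0 r fun h0 => by simp [h0] at hr, ?_⟩
    show ((t : S) : M3) = r • 1
    rw [← hs, Matrix.scalar_apply, Matrix.smul_one_eq_diagonal]

variable {G P : Subgroup (GL (Fin 3) F)}

/-- `P` modulo scalars inside `G` modulo scalars. -/
noncomputable def pxIncl (h : P ≤ G) : PX P →* PX G :=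
  QuotientGroup.map _ _ (Subgroup.inclusion h) fun x hx => hx

theorem pxIncl_px (h : P ≤ G) (x : P) : pxIncl h (px P x) = px G ⟨x, h x.2⟩ := rfl

theorem pxIncl_injective (h : P ≤ G) : Function.Injective (pxIncl h) := by
  rw [injective_iff_map_eq_one]
  intro X hX
  obtain ⟨x, rfl⟩ := px_surjective X
  rw [pxIncl_px] at hX
  obtain ⟨c, hc⟩ := px_eq_one.mp hX
  exact px_eq_one.mpr ⟨c, hc⟩

theorem px_mem_range_iff (h : P ≤ G) (g : G) : px G g ∈ (pxIncl h).range ↔ InP P g := by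
  constructor
  · rintro ⟨X, hX⟩
    obtain ⟨x, rfl⟩ := px_surjective X
    obtain ⟨c, hc⟩ := px_eq_iff.mp (hX : px G ⟨x, h x.2⟩ = px G g)
    exact ⟨x, x.2, c, hc⟩
  · rintro ⟨x, hx, c, hc⟩
    exact ⟨px P ⟨x, hx⟩, px_eq_iff.mpr ⟨c, hc⟩⟩

/-- The image of `P` is everything when `G ⊆ F P`. -/
theorem iso_of_all (h : P ≤ G) (hall : ∀ g ∈ G, InP P g) : Nonempty (PX G ≃* PX P) :=
  ⟨(MulEquiv.ofBijective (pxIncl h) ⟨pxIncl_injective h, fun X => by
    obtain ⟨g, rfl⟩ := px_surjective X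
    exact (px_mem_range_iff h g).mpr (hall g g.2)⟩).symm⟩

/-- The subgroup of index `|χ(G)|`. -/
theorem exists_sub_of_hom {C : Type*} [Group C] (h : P ≤ G) (χ : G →* C)
    (hχ : ∀ g : G, InP P g ↔ χ g = 1) :
    ∃ L : Subgroup (PX G), L.index = Nat.card χ.range ∧ Nonempty (↥L ≃* PX P) := by
  refine ⟨(pxIncl h).range, ?_, ⟨(MonoidHom.ofInjective (pxIncl_injective h)).symm⟩⟩
  rw [← (pxIncl h).range.index_comap_of_surjective (f := px G) px_surjective, ← Subgroup.index_ker]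
  congr 1
  ext g
  rw [Subgroup.mem_comap, MonoidHom.mem_ker, px_mem_range_iff, hχ]

/-- A subgroup of index at most two. -/
theorem exists_sub_two (h : P ≤ G) (hout : ∀ a : G, ∀ b : G, ¬ InP P a → ¬ InP P b →
    InP P ((a : GL (Fin 3) F)⁻¹ * b)) {g : G} (hg : ¬ InP P g) :
    ∃ L : Subgroup (PX G), L.index = 2 ∧ Nonempty (↥L ≃* PX P) := by
  refine ⟨(pxIncl h).range, ?_, ⟨(MonoidHom.ofInjective (pxIncl_injective h)).symm⟩⟩
  rw [← (pxIncl h).range.index_comap_of_surjective (f := px G) px_surjective, Subgroup.index_eq_two_iff]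
  set R := (pxIncl h).range.comap (px G) with hR
  have hmem : ∀ a : G, a ∈ R ↔ InP P a := fun a => px_mem_range_iff h a
  have hg' : g ∉ R := mt (hmem g).mp hg
  refine ⟨g, fun b => ?_⟩
  by_cases hb : b ∈ R
  · exact Or.inr ⟨hb, fun hbg => hg' (by simpa using R.mul_mem (R.inv_mem hb) hbg)⟩
  · refine Or.inl ⟨?_, hb⟩
    have hb' : b⁻¹ ∉ R := fun hh => hb (by simpa using R.inv_mem hh)
    have := (hmem (b⁻¹⁻¹ * g)).mpr (by simpa using hout b⁻¹ g (mt (hmem _).mpr hb') hg)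
    simpa using this

/-- The hypothesis of the statement in `SL₃(F)`. -/
theorem noAb_of_quotient (hN : ∀ A : Subgroup (PX G), A.Normal → (∀ a ∈ A, ∀ b ∈ A, a * b = b * a) → A = ⊥) :
    NoAb G := by
  intro A hA hi hc a ha
  have hn : (A.subgroupOf G).Normal := ⟨fun x hx g => hi g g.2 x hx⟩
  have hbot := hN ((A.subgroupOf G).map (px G)) (hn.map _ px_surjective) (by
    rintro _ ⟨x, hx, rfl⟩ _ ⟨y, hy, rfl⟩
    rw [← commutatorElement_eq_one_iff_mul_comm, ← map_commutatorElement]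
    exact (QuotientGroup.eq_one_iff _).mpr (Subgroup.mem_subgroupOf.mpr (hc x hx y hy)))
  have : px G ⟨a, hA ha⟩ ∈ (A.subgroupOf G).map (px G) := ⟨_, ha, rfl⟩
  rw [hbot, Subgroup.mem_bot] at this
  exact Subgroup.mem_subgroupOf.mp ((QuotientGroup.eq_one_iff (⟨a, hA ha⟩ : G)).mp this)

end Cfsg.Agent.Linear.Mitchell.Subgroups
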